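import Cfsg.Agent.TH.Cl.Basic
import Cfsg.Agent.SB.C2.ExtB

/-!
# S3541, box `Ext`: the ring as a twisted group ring (helper58)

`ad a` is the conjugation by `a`, `Lf N a` says that `a` is a unitary lift of an element of `N`.
-/

set_option autoImplicit false
set_option linter.unusedSectionVars false

namespace Cfsg.Agent.TH.Cl.Ext

open Cfsg.Agent.DS.Cl Cfsg.Agent.DS.Cl.Fwd Cfsg.Agent.SB.Cl
open scoped commutatorElement

variable {A : Type} [Ring A] [StarRing A]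

/-- unitary elements -/
def Un (a : A) : Prop := a * star a = 1

open Classical in
/-- the conjugation by `a` -/
noncomputable def ad (a : A) : RingAut A := if h : IsUnit a then DS.Cl.cj A h.unit else 1

omit [StarRing A] in
theorem ad_val (u : Aˣ) : ad (u : A) = DS.Cl.cj A u := by
  rw [ad, dif_pos u.isUnit, IsUnit.unit_of_val_units]

omit [StarRing A] in
theorem ad_one : ad (1 : A) = 1 := by rw [← Units.val_one, ad_val, map_one]

omit [StarRing A] in
theorem ad_mul' {a b : A} (ha : IsUnit a) (hb : IsUnit b) : ad (a * b) = ad a * ad b := by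
  obtain ⟨u, rfl⟩ := ha
  obtain ⟨v, rfl⟩ := hb
  rw [← Units.val_mul, ad_val, ad_val, ad_val, map_mul]

omit [StarRing A] in
theorem conj_ad' (γ : RingAut A) {a : A} (ha : IsUnit a) : γ * ad a * γ⁻¹ = ad (γ a) := by
  obtain ⟨u, rfl⟩ := ha
  rw [ad_val, conj_cj, ← ad_val]
  rfl

omit [StarRing A] in
theorem ad_cen {c : A} (hc : c ∈ Subring.center A) : ad c = 1 := by
  by_cases h : IsUnit c
  · obtain ⟨u, rfl⟩ := h
    rw [ad_val, cj_eq_one_iff.2 hc]
  · rw [ad, dif_neg h]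

theorem Un.one : Un (1 : A) := by simp [Un]

theorem Un.mul {a b : A} (ha : Un a) (hb : Un b) : Un (a * b) := by
  rw [Un, star_mul, mul_assoc, ← mul_assoc b, show b * star b = 1 from hb, one_mul, show a * star a = 1 from ha]

theorem Un.neg {a : A} (ha : Un a) : Un (-a) := by rw [Un, star_neg, neg_mul_neg]; exact ha

theorem Un.pow {a : A} (ha : Un a) (k : ℕ) : Un (a ^ k) := by
  induction k with
  | zero => rw [pow_zero]; exact Un.one
  | succ k ih => rw [pow_succ]; exact ih.mul ha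

theorem Un.map {a : A} (ha : Un a) {γ : RingAut A} (hγ : γ ∈ SAut A) : Un (γ a) := by
  rw [Un, ← hγ, ← map_mul, show a * star a = 1 from ha, map_one]

variable [Finite A]

theorem Un.ms {a : A} (ha : Un a) : a * star a = 1 := ha

theorem Un.sm {a : A} (ha : Un a) : star a * a = 1 := mul_eq_one_comm.1 ha

theorem Un.st {a : A} (ha : Un a) : Un (star a) := by rw [Un, star_star, ha.sm]

theorem Un.isUnit {a : A} (ha : Un a) : IsUnit a := ⟨mkU a ha, rfl⟩

theorem Un.star_eq {a b : A} (ha : Un a) (h : a * b = 1) : star a = b := by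
  rw [← mul_one (star a), ← h, ← mul_assoc, ha.sm, one_mul]

theorem Un.cancel {a x y : A} (ha : Un a) (h : a * x = a * y) : x = y := ha.isUnit.mul_left_cancel h

theorem Un.cancel' {a x y : A} (ha : Un a) (h : x * a = y * a) : x = y := ha.isUnit.mul_right_cancel h

theorem ad_mul {a b : A} (ha : Un a) (hb : Un b) : ad (a * b) = ad a * ad b := ad_mul' ha.isUnit hb.isUnit

theorem ad_apply {a : A} (ha : Un a) (x : A) : ad a x = a * x * star a := by
  rw [show ad a = DS.Cl.cj A (mkU a ha) from ad_val (mkU a ha), cj_apply]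
  rfl

theorem ad_star {a : A} (ha : Un a) : ad (star a) = (ad a)⁻¹ := by
  rw [eq_inv_iff_mul_eq_one, ← ad_mul ha.st ha, ha.sm, ad_one]

theorem ad_pow {a : A} (ha : Un a) (k : ℕ) : ad (a ^ k) = ad a ^ k := by
  induction k with
  | zero => rw [pow_zero, pow_zero, ad_one]
  | succ k ih => rw [pow_succ, pow_succ, ad_mul (ha.pow k) ha, ih]

theorem ad_neg {a : A} (ha : Un a) : ad (-a) = ad a := by
  rw [← neg_one_mul, ad_mul Un.one.neg ha, ad_cen (Subring.neg_mem _ (Subring.one_mem _)), one_mul]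

theorem conj_ad (γ : RingAut A) {a : A} (ha : Un a) : γ * ad a * γ⁻¹ = ad (γ a) := conj_ad' γ ha.isUnit

theorem ad_eq_one_iff {a : A} (ha : Un a) : ad a = 1 ↔ a ∈ Subring.center A := by
  rw [show ad a = DS.Cl.cj A (mkU a ha) from ad_val (mkU a ha), cj_eq_one_iff]
  rfl

theorem ad_eq_iff {a b : A} (ha : Un a) (hb : Un b) :
    ad a = ad b ↔ ∃ c ∈ Subring.center A, Un c ∧ a = c * b := by
  constructor
  · intro h
    refine ⟨a * star b, (ad_eq_one_iff (ha.mul hb.st)).1 ?_, ha.mul hb.st, by rw [mul_assoc, hb.sm, mul_one]⟩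
    rw [ad_mul ha hb.st, ad_star hb, h, mul_inv_cancel]
  · rintro ⟨c, hc, hc', rfl⟩
    rw [ad_mul hc' hb, ad_cen hc, one_mul]

theorem ad_fix {a x : A} (ha : Un a) : ad a x = x ↔ a * x = x * a := by
  rw [ad_apply ha]
  constructor
  · intro h
    rw [← h, mul_assoc _ (star a), ha.sm, mul_one, h]
  · intro h
    rw [h, mul_assoc, ha.ms, mul_one]

theorem exists_of_PI {F : FR A} {γ : RingAut A} (h : γ ∈ F.PI) : ∃ a, Un a ∧ ad a = γ := by
  obtain ⟨u, hu, rfl⟩ := h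
  exact ⟨u, hu.1, ad_val u⟩

/-- the unitary lifts of the elements of `N` -/
def Lf (N : Subgroup (RingAut A)) (a : A) : Prop := Un a ∧ ad a ∈ N

namespace Lf

variable {N : Subgroup (RingAut A)}

theorem mul {a b : A} (ha : Lf N a) (hb : Lf N b) : Lf N (a * b) :=
  ⟨ha.1.mul hb.1, by rw [ad_mul ha.1 hb.1]; exact N.mul_mem ha.2 hb.2⟩

theorem st {a : A} (ha : Lf N a) : Lf N (star a) := ⟨ha.1.st, by rw [ad_star ha.1]; exact N.inv_mem ha.2⟩

theorem cen {c : A} (hc : c ∈ Subring.center A) (h : Un c) : Lf N c := ⟨h, by rw [ad_cen hc]; exact N.one_mem⟩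

theorem one : Lf N (1 : A) := cen (Subring.one_mem _) Un.one

theorem neg {a : A} (ha : Lf N a) : Lf N (-a) := ⟨ha.1.neg, by rw [ad_neg ha.1]; exact ha.2⟩

theorem pow {a : A} (ha : Lf N a) (k : ℕ) : Lf N (a ^ k) := ⟨ha.1.pow k, by rw [ad_pow ha.1]; exact N.pow_mem ha.2 k⟩

theorem map {a : A} (ha : Lf N a) {γ : RingAut A} (hγ : γ ∈ SAut A) (h : ∀ x ∈ N, γ * x * γ⁻¹ ∈ N) : Lf N (γ a) :=
  ⟨ha.1.map hγ, by rw [← conj_ad γ ha.1]; exact h _ ha.2⟩

end Lf

/-- `g` normalises the lifts -/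
def Nm (N : Subgroup (RingAut A)) (g : A) : Prop := ∀ u, Lf N u → ∃ v, Lf N v ∧ g * u = v * g

theorem Nm.mul {N : Subgroup (RingAut A)} {g g' : A} (h : Nm N g) (h' : Nm N g') : Nm N (g * g') := fun u hu => by
  obtain ⟨v, hv, e⟩ := h' u hu
  obtain ⟨w, hw, e'⟩ := h v hv
  exact ⟨w, hw, by rw [mul_assoc, e, ← mul_assoc, e', mul_assoc]⟩

theorem Nm.cen {N : Subgroup (RingAut A)} {c : A} (hc : c ∈ Subring.center A) : Nm N c := fun u hu =>
  ⟨u, hu, (cen_comm hc u).symm⟩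

/-- the standing hypotheses on `N` -/
structure Sit (F : FR A) (N : Subgroup (RingAut A)) (r : ℕ) : Prop where
  ss : SS A
  le : N ≤ F.S
  ne : N ≠ ⊥
  comm : ∀ x ∈ N, ∀ y ∈ N, x * y = y * x
  prime : r.Prime
  exp : ∀ x ∈ N, x ^ r = 1
  sp : DS.Cl.Ext.Sp F N

namespace Sit

variable {F : FR A} {N : Subgroup (RingAut A)} {r : ℕ} (σ : Sit F N r)
include σ

theorem le_PI : N ≤ F.PI := σ.le.trans F.S_le_PI

theorem sty : DS.Cl.Ext.Sty (DS.Cl.Ext.Uh F N) r := DS.Cl.Ext.sty_of σ.ss σ.le_PI σ.ne σ.comm σ.prime σ.exp σ.sp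

theorem L_eq : F.L = Lmax A := DS.Cl.Ext.L_eq σ.ss σ.sty

theorem mem_Iso {a : A} (ha : Un a) : mkU a ha ∈ F.Iso := mem_Iso_max σ.L_eq ha

theorem mem_PI {a : A} (ha : Un a) : ad a ∈ F.PI := ⟨mkU a ha, σ.mem_Iso ha, (ad_val (mkU a ha)).symm⟩

/-- commutators of unitary elements -/
theorem comm_mem {a b : A} (ha : Un a) (hb : Un b) : ad (a * b * star a * star b) ∈ F.S := by
  rw [ad_mul ((ha.mul hb).mul ha.st) hb.st, ad_mul (ha.mul hb) ha.st, ad_mul ha hb, ad_star ha, ad_star hb, F.S_eq]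
  exact Subgroup.commutator_mem_commutator (σ.mem_PI ha) (σ.mem_PI hb)

theorem exists_lf {ν : RingAut A} (h : ν ∈ N) : ∃ a, Lf N a ∧ ad a = ν := by
  obtain ⟨a, ha, rfl⟩ := exists_of_PI (σ.le_PI h)
  exact ⟨a, ⟨ha, h⟩, rfl⟩

theorem isPGroup : IsPGroup r N := fun x => ⟨1, Subtype.ext (by rw [pow_one]; exact σ.exp _ x.2)⟩

theorem ind {P : A → Prop} (h1 : ∀ c ∈ Subring.center A, ∀ u, Lf N u → P (c * u)) (h2 : ∀ a b, P a → P b → P (a + b))
    (a : A) : P a :=
  σ.sp.ind (fun c hc u => h1 c hc _ ⟨u.2.2.1, by rw [ad_val]; exact u.2.1⟩) h2 a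

/-- an element commuting with all lifts is central -/
theorem cen_of {a : A} (h : ∀ u, Lf N u → u * a = a * u) : a ∈ Subring.center A := by
  rw [Subring.mem_center_iff]
  refine σ.ind (fun c hc u hu => ?_) fun x y hx hy => by rw [add_mul, mul_add, hx, hy]
  rw [mul_assoc, h u hu, ← mul_assoc, ← mul_assoc, cen_comm hc]

theorem pow_cen {u : A} (hu : Lf N u) : u ^ r ∈ Subring.center A :=
  (ad_eq_one_iff (hu.1.pow r)).1 (by rw [ad_pow hu.1]; exact σ.exp _ hu.2)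

/-- lifts commute up to roots of unity -/
theorem exists_kap {u v : A} (hu : Lf N u) (hv : Lf N v) :
    ∃ κ ∈ Subring.center A, Un κ ∧ κ ^ r = 1 ∧ u * v = κ * (v * u) := by
  obtain ⟨κ, h1, h2, h3⟩ := (ad_eq_iff (hu.1.mul hv.1) (hv.1.mul hu.1)).1 (by
    rw [ad_mul hu.1 hv.1, ad_mul hv.1 hu.1]; exact σ.comm _ hu.2 _ hv.2)
  refine ⟨κ, h1, h2, ?_, h3⟩
  have h4 : ∀ k : ℕ, u * v ^ k = κ ^ k * (v ^ k * u) := by
    intro k
    induction k with
    | zero => simp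
    | succ k ih =>
      rw [pow_succ, ← mul_assoc, ih, mul_assoc, mul_assoc, h3, ← mul_assoc (v ^ k), cen_comm h1, pow_succ]
      simp only [mul_assoc]
  have h5 := h4 r
  rw [cen_comm (σ.pow_cen hv)] at h5
  exact (((hv.1.pow r).mul hu.1).cancel' (by rw [← h5, one_mul])).symm

theorem nm_lf {u : A} (hu : Lf N u) : Nm N u := fun v hv => by
  obtain ⟨κ, h1, h2, -, h3⟩ := σ.exists_kap hu hv
  exact ⟨κ * v, (Lf.cen h1 h2).mul hv, by rw [h3, mul_assoc]⟩

theorem norm_of_nm {g : A} (hg : Un g) (h : Nm N g) : ∀ x ∈ N, ad g * x * (ad g)⁻¹ ∈ N := by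
  intro x hx
  obtain ⟨u, hu, rfl⟩ := σ.exists_lf hx
  obtain ⟨v, hv, e⟩ := h u hu
  rw [conj_ad _ hu.1, ad_apply hg, e, mul_assoc, hg.ms, mul_one]
  exact hv.2

theorem lf_of_norm {g : A} (hg : Un g) (h : ∀ x ∈ N, ad g * x * (ad g)⁻¹ ∈ N) {u : A} (hu : Lf N u) :
    Lf N (g * u * star g) := by
  rw [← ad_apply hg]
  exact hu.map (F.Aut_le_SAut (F.PI_le_Aut (σ.mem_PI hg))) h

theorem sub_unit {κ κ' : A} (h1 : κ ∈ Subring.center A) (h2 : Un κ) (h1' : κ' ∈ Subring.center A) (h2' : Un κ')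
    (h : κ ≠ κ') : IsUnit (κ - κ') := by
  have e : κ - κ' = (κ * star κ' - 1) * κ' := by rw [sub_mul, mul_assoc, h2'.sm, mul_one, one_mul]
  rw [e]
  refine (DS.Cl.Ext.isUnit_sub_one σ.ss (Subring.mul_mem _ h1 (star_cen h1')) (h2.mul h2'.st) fun h3 => h ?_).mul
    h2'.isUnit
  rw [← mul_one κ, ← h2'.sm, ← mul_assoc, h3, one_mul]

/-- **coordinates** -/
theorem exists_co [Fintype N] : ∃ (s : N → A) (co : A ≃+ (N → Subring.center A)), (∀ ν, Lf N (s ν)) ∧
    (∀ ν, ad (s ν) = ν) ∧ ∀ a : A, ∑ ν, (co a ν : A) * s ν = a := by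
  classical
  choose s hs hs' using fun ν : N => σ.exists_lf ν.2
  let s' : N → DS.Cl.Ext.Nh F N := fun ν => ⟨mkU _ (hs ν).1, by
    refine ⟨?_, σ.mem_Iso _⟩
    change DS.Cl.cj A _ ∈ N
    rw [← ad_val]
    exact (hs ν).2⟩
  have hi : ∀ i j, s' i * (s' j)⁻¹ ∈ DS.Cl.Ext.Uh F N → i = j := by
    intro i j hij
    have h1 : s i * star (s j) ∈ Subring.center A := hij
    rw [← ad_eq_one_iff ((hs i).1.mul (hs j).1.st), ad_mul (hs i).1 (hs j).1.st, ad_star (hs j).1, hs', hs',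
      mul_inv_eq_one] at h1
    exact Subtype.ext h1
  let Φ : (N → Subring.center A) →+ A := AddMonoidHom.mk' (fun g => ∑ i, (g i : A) * s i) fun g g' => by
    rw [← Finset.sum_add_distrib]
    refine Finset.sum_congr rfl fun i _ => ?_
    rw [← add_mul]
    rfl
  have hb : Function.Bijective Φ := by
    constructor
    · rw [injective_iff_map_eq_zero]
      intro g hg
      funext i
      exact Subtype.ext (DS.Cl.Ext.indep σ.ss σ.sty s' hi Finset.univ (fun i => g i) (fun i => (g i).2) hg i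
        (Finset.mem_univ i))
    · refine σ.ind (fun c hc u hu => ?_) ?_
      · obtain ⟨d, hd, -, e⟩ := (ad_eq_iff hu.1 (hs ⟨_, hu.2⟩).1).1 (hs' ⟨_, hu.2⟩).symm
        refine ⟨Pi.single ⟨_, hu.2⟩ ⟨c * d, Subring.mul_mem _ hc hd⟩, ?_⟩
        change ∑ i, _ = _
        rw [Finset.sum_eq_single (⟨_, hu.2⟩ : N) (fun i _ hi => by rw [Pi.single_eq_of_ne hi]; simp) (by simp),
          Pi.single_eq_same, mul_assoc, ← e]
      · rintro _ _ ⟨g, rfl⟩ ⟨g', rfl⟩
        exact ⟨g + g', map_add _ _ _⟩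
  exact ⟨s, (AddEquiv.ofBijective Φ hb).symm, hs, hs', fun a => (AddEquiv.ofBijective Φ hb).apply_symm_apply a⟩

end Sit

end Cfsg.Agent.TH.Cl.Ext
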