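import Cfsg.Agent.TH.Cl.Ext.Base

/-!
# S3541, box `Ext`: centralisers of the elements normalising `N` (helper58)
-/

set_option autoImplicit false
set_option linter.unusedSectionVars false

namespace Cfsg.Agent.TH.Cl.Ext

open Cfsg.Agent.DS.Cl Cfsg.Agent.DS.Cl.Fwd Cfsg.Agent.SB.Cl

/-- the action of a cyclic group -/
@[reducible] def cycAct {X : Type*} (π : Equiv.Perm X) (m : ℕ) [NeZero m] (h : π ^ m = 1) :
    MulAction (Multiplicative (ZMod m)) X where
  smul k x := (π ^ (Multiplicative.toAdd k).val) x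
  one_smul x := by
    change (π ^ (0 : ZMod m).val) x = x
    rw [ZMod.val_zero, pow_zero]
    rfl
  mul_smul k l x := by
    change (π ^ (Multiplicative.toAdd k + Multiplicative.toAdd l).val) x = (π ^ _ * π ^ _) x
    rw [ZMod.val_add, ← pow_eq_pow_mod _ h, pow_add]

/-- representatives of the orbits of a permutation -/
theorem burnside {X : Type*} [Finite X] (π : Equiv.Perm X) {m : ℕ} (hm : m ≠ 0) (h : π ^ m = 1) :
    ∃ R : Finset X, (∀ x, ∃ k : ℕ, (π ^ k) x ∈ R) ∧
      R.card * m = ∑ k ∈ Finset.range m, Nat.card {x // (π ^ k) x = x} := by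
  classical
  obtain ⟨n, rfl⟩ := Nat.exists_eq_succ_of_ne_zero hm
  let _ := cycAct π (n + 1) h
  let _ : Fintype X := Fintype.ofFinite X
  let _ : Fintype (Quotient (MulAction.orbitRel (Multiplicative (ZMod (n + 1))) X)) := Fintype.ofFinite _
  have h1 := MulAction.sum_card_fixedBy_eq_card_orbits_mul_card_group (Multiplicative (ZMod (n + 1))) X
  refine ⟨Finset.univ.image fun ω : Quotient (MulAction.orbitRel (Multiplicative (ZMod (n + 1))) X) => ω.out,
    fun x => ?_, ?_⟩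
  · obtain ⟨g, hg⟩ : (Quotient.mk (MulAction.orbitRel (Multiplicative (ZMod (n + 1))) X) x).out ∈
        MulAction.orbit (Multiplicative (ZMod (n + 1))) x := Quotient.mk_out (s := MulAction.orbitRel _ X) x
    exact ⟨(Multiplicative.toAdd g).val, Finset.mem_image.2 ⟨_, Finset.mem_univ _, hg.symm⟩⟩
  · rw [Finset.card_image_of_injective _ Quotient.out_injective, Finset.card_univ]
    rw [Fintype.card_multiplicative, ZMod.card] at h1
    rw [← h1, ← Fin.sum_univ_eq_sum_range (fun k => Nat.card {x // (π ^ k) x = x}) (n + 1)]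
    let e : Multiplicative (ZMod (n + 1)) ≃ Fin (n + 1) := Equiv.refl _
    refine Fintype.sum_equiv e _ _ fun g => ?_
    rw [← Nat.card_eq_fintype_card]
    rfl

theorem card_mul_le {Γ : Type*} [Group Γ] [Finite Γ] {r : ℕ} (hr : r.Prime) {N K : Subgroup Γ} (hN : IsPGroup r N)
    (hK : K ≤ N) (hne : ¬ N ≤ K) : Nat.card K * r ≤ Nat.card N := by
  have : Fact r.Prime := ⟨hr⟩
  obtain ⟨k, hk⟩ := hN.index (K.subgroupOf N)
  have h1 : k ≠ 0 := by
    rintro rfl
    rw [pow_zero, Subgroup.index_eq_one, Subgroup.subgroupOf_eq_top] at hk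
    exact hne hk
  rw [← (K.subgroupOf N).card_mul_index, In.card_sub hK, hk]
  exact Nat.mul_le_mul_left _ (Nat.le_self_pow h1 r)

variable {A : Type} [Ring A] [StarRing A] [Finite A]

/-- the centraliser of a ring element -/
abbrev Fx (x : A) : Type := {a : A // x * a = a * x}

/-- the elements of `N` commuting with `γ` -/
abbrev cN (N : Subgroup (RingAut A)) (γ : RingAut A) : Subgroup (RingAut A) := N ⊓ Subgroup.centralizer {γ}

theorem mem_cN {N : Subgroup (RingAut A)} {γ x : RingAut A} : x ∈ cN N γ ↔ x ∈ N ∧ γ * x = x * γ := by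
  rw [Subgroup.mem_inf, Subgroup.mem_centralizer_singleton_iff, eq_comm]

theorem card_Fx {x y : A} (hx : Un x) (hy : Un y) (g : RingAut A) (h : ad y = g * ad x * g⁻¹) :
    Nat.card (Fx y) = Nat.card (Fx x) := by
  refine (Nat.card_congr (Equiv.subtypeEquiv g.toEquiv fun a => ?_)).symm
  rw [← ad_fix hx, ← ad_fix hy, h]
  change _ ↔ g (ad x (g⁻¹ (g a))) = g a
  rw [ra_inv_apply, g.injective.eq_iff]

namespace Sit

variable {F : FR A} {N : Subgroup (RingAut A)} {r : ℕ} (σ : Sit F N r)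

section co

variable [Fintype N] {s : N → A} {co : A ≃+ (N → Subring.center A)} (hs : ∀ ν, Lf N (s ν)) (hs' : ∀ ν, ad (s ν) = ν)
  (hc : ∀ a : A, ∑ ν, (co a ν : A) * s ν = a)
include hc

theorem co_sum (g : N → Subring.center A) : co (∑ ν, (g ν : A) * s ν) = g := by
  have h := hc (co.symm g)
  rw [co.apply_symm_apply] at h
  rw [h, co.apply_symm_apply]

theorem co_smul (c : Subring.center A) (a : A) (ν : N) : co (c * a) ν = c * co a ν := by
  have h : (c : A) * a = ∑ ν, ((c * co a ν : Subring.center A) : A) * s ν := by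
    conv_lhs => rw [← hc a, Finset.mul_sum]
    exact Finset.sum_congr rfl fun ν _ => by rw [Subring.coe_mul, mul_assoc]
  rw [h, co_sum hc]

theorem co_conj {x : A} (π : Equiv.Perm N) (lam : N → Subring.center A)
    (h : ∀ ν, x * s ν * star x = lam ν * s (π ν)) (a : A) (ν : N) : co (x * a * star x) (π ν) = lam ν * co a ν := by
  have h1 : x * a * star x = ∑ μ, ((lam (π.symm μ) * co a (π.symm μ) : Subring.center A) : A) * s μ := by
    rw [← Equiv.sum_comp π]
    conv_lhs => rw [← hc a, Finset.mul_sum, Finset.sum_mul]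
    refine Finset.sum_congr rfl fun ν _ => ?_
    rw [π.symm_apply_apply, ← mul_assoc x, cen_comm (co a ν).2, mul_assoc, mul_assoc, ← mul_assoc x, h, ← mul_assoc,
      mul_comm (lam ν)]
    rfl
  rw [h1, co_sum hc, π.symm_apply_apply]

theorem card_Fx_le {x : A} (R : Finset N) (h : ∀ a, x * a = a * x → (∀ ν ∈ R, co a ν = 0) → ∀ ν, co a ν = 0) :
    Nat.card (Fx x) ≤ Nat.card (Subring.center A) ^ R.card := by
  rw [← Fintype.card_coe, ← Nat.card_eq_fintype_card, ← Nat.card_fun]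
  refine Nat.card_le_card_of_injective (fun a : Fx x => fun ν : R => co a ν) fun a b hab => Subtype.ext ?_
  have h1 := h (a - b) (by rw [mul_sub, sub_mul, a.2, b.2]) fun ν hν => by
    rw [map_sub, Pi.sub_apply, sub_eq_zero]
    exact congrFun hab ⟨ν, hν⟩
  rw [← sub_eq_zero, ← co.map_eq_zero_iff]
  exact funext h1

omit hc in
include hs hs' in
theorem exists_lam {u : A} (hu : Lf N u) {ν : N} (h : ad u = ν) :
    ∃ lam : Subring.center A, Un (lam : A) ∧ u = lam * s ν := by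
  obtain ⟨c, h1, h2, h3⟩ := (ad_eq_iff hu.1 (hs ν).1).1 (h.trans (hs' ν).symm)
  exact ⟨⟨c, h1⟩, h2, h3⟩

end co

include σ

theorem card_eq : Nat.card A = Nat.card (Subring.center A) ^ Nat.card N := by
  let _ : Fintype N := Fintype.ofFinite _
  obtain ⟨s, co, -⟩ := σ.exists_co
  rw [Nat.card_congr co.toEquiv, Nat.card_fun]

theorem two_le : 2 ≤ Nat.card (Subring.center A) := by
  have := σ.ss.nontrivial
  exact Finite.one_lt_card

/-- **`N` is self-centralising** -/
theorem cent {x : A} (hx : Un x) (h : ∀ ν ∈ N, ad x * ν = ν * ad x) : ad x ∈ N := by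
  have := σ.ss.nontrivial
  let _ : Fintype N := Fintype.ofFinite _
  obtain ⟨s, co, hs, hs', hc⟩ := σ.exists_co
  obtain ⟨μ, hμ⟩ : ∃ μ, co x μ ≠ 0 := by
    by_contra h0
    push Not at h0
    exact hx.isUnit.ne_zero (co.map_eq_zero_iff.1 (funext h0))
  have key : ∀ u, Lf N u → u * (x * star (s μ)) = x * star (s μ) * u := by
    intro u hu
    have h1 : ∀ ν, ∃ lam : Subring.center A, Un (lam : A) ∧ u * s ν * star u = lam * s ν := fun ν =>
      exists_lam hs hs' ((hu.mul (hs ν)).mul hu.st) (by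
        rw [ad_mul (hu.1.mul (hs ν).1) hu.1.st, ad_mul hu.1 (hs ν).1, ad_star hu.1, hs', σ.comm _ hu.2 _ ν.2,
          mul_inv_cancel_right])
    choose lam h1 h2 using h1
    obtain ⟨χ, h3, h4, h5⟩ := (ad_eq_iff ((hu.1.mul hx).mul hu.1.st) hx).1 (by
      rw [ad_mul (hu.1.mul hx) hu.1.st, ad_mul hu.1 hx, ad_star hu.1, ← h _ hu.2, mul_inv_cancel_right])
    have h6 := co_conj hc 1 lam h2 x μ
    rw [h5, co_smul hc ⟨χ, h3⟩] at h6
    have h7 : χ = lam μ := by
      by_contra hne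
      refine hμ (Subtype.ext ((σ.sub_unit h3 h4 (lam μ).2 (h1 μ) hne).mul_right_eq_zero.1 ?_))
      rw [sub_mul, sub_eq_zero]
      exact congrArg Subtype.val h6
    have h8 : u * x = χ * (x * u) := by rw [← mul_assoc, ← h5, mul_assoc _ _ u, hu.1.sm, mul_one]
    have h9 : u * s μ = χ * (s μ * u) := by rw [← mul_assoc, h7, ← h2, mul_assoc _ _ u, hu.1.sm, mul_one]
    refine (hs μ).1.cancel' ?_
    rw [mul_assoc, mul_assoc, (hs μ).1.sm, mul_one, mul_assoc, h9, ← mul_assoc _ χ, cen_comm h3, h8, mul_assoc,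
      mul_assoc x, ← mul_assoc (star _), (hs μ).1.sm, one_mul]
  have h1 := ad_cen (σ.cen_of key)
  rw [ad_mul hx (hs μ).1.st, ad_star (hs μ).1, mul_inv_eq_one] at h1
  rw [h1]
  exact (hs μ).2

/-- the centraliser of a lift -/
theorem fx_lf {u : A} (hu : Lf N u) (hne : ad u ≠ 1) :
    ∃ t, Nat.card (Fx u) ≤ Nat.card (Subring.center A) ^ t ∧ t * r ≤ Nat.card N := by
  classical
  let _ : Fintype N := Fintype.ofFinite _
  obtain ⟨s, co, hs, hs', hc⟩ := σ.exists_co
  let K : Subgroup (RingAut A) :=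
    { carrier := {ν | ν ∈ N ∧ ν u = u}
      mul_mem' := fun ha hb => ⟨N.mul_mem ha.1 hb.1, by rw [ra_mul, hb.2, ha.2]⟩
      one_mem' := ⟨N.one_mem, rfl⟩
      inv_mem' := fun {a} ha => ⟨N.inv_mem ha.1, by conv_lhs => rw [← ha.2, ra_inv_apply]⟩ }
  have h1 : ∀ ν, ∃ lam : Subring.center A, Un (lam : A) ∧ u * s ν * star u = lam * s ν := fun ν =>
    exists_lam hs hs' ((hu.mul (hs ν)).mul hu.st) (by
      rw [ad_mul (hu.1.mul (hs ν).1) hu.1.st, ad_mul hu.1 (hs ν).1, ad_star hu.1, hs', σ.comm _ hu.2 _ ν.2,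
        mul_inv_cancel_right])
  choose lam h1 h2 using h1
  refine ⟨_, card_Fx_le hc (Finset.univ.filter fun ν : N => (ν : RingAut A) ∈ K) fun a ha h0 ν => ?_, ?_⟩
  · by_cases hν : (lam ν : A) = 1
    · refine h0 ν (Finset.mem_filter.2 ⟨Finset.mem_univ _, ν.2, ?_⟩)
      have h3 := h2 ν
      rw [hν, one_mul, ← ad_apply hu.1, ad_fix hu.1] at h3
      rw [← hs', ad_fix (hs ν).1, h3]
    · have h6 := co_conj hc 1 lam h2 a ν
      rw [ha, mul_assoc, hu.1.ms, mul_one] at h6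
      refine Subtype.ext ((σ.sub_unit (lam ν).2 (h1 ν) (Subring.one_mem _) Un.one hν).mul_right_eq_zero.1 ?_)
      rw [sub_mul, sub_eq_zero, one_mul]
      exact (congrArg Subtype.val h6).symm
  · refine le_trans (le_of_eq ?_) (card_mul_le σ.prime σ.isPGroup (K := K) (fun _ h => h.1) fun h => hne ?_)
    · rw [← Fintype.card_subtype, ← Nat.card_eq_fintype_card, ← In.card_sub (G := N) (Y := K) fun _ h => h.1]
      rfl
    · refine ad_cen (σ.cen_of fun v hv => ?_)
      rw [← ad_fix hv.1]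
      exact (h hv.2).2

/-- the centraliser of an element normalising `N` -/
theorem fx_nm {x : A} (hx : Un x) (hn : ∀ ν ∈ N, ad x * ν * (ad x)⁻¹ ∈ N) {m : ℕ} (hm : m ≠ 0) (h : ad x ^ m = 1) :
    ∃ t, Nat.card (Fx x) ≤ Nat.card (Subring.center A) ^ t ∧
      t * m = ∑ k ∈ Finset.range m, Nat.card (cN N (ad x ^ k)) := by
  classical
  let _ : Fintype N := Fintype.ofFinite _
  obtain ⟨s, co, hs, hs', hc⟩ := σ.exists_co
  let π : Equiv.Perm N := Equiv.ofBijective (fun ν : N => ⟨_, hn _ ν.2⟩) (Finite.injective_iff_bijective.1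
    fun a b hab => Subtype.ext (mul_left_cancel (mul_right_cancel (congrArg Subtype.val hab))))
  have hπ : ∀ (k : ℕ) (ν : N), (((π ^ k) ν : N) : RingAut A) = ad x ^ k * ν * (ad x ^ k)⁻¹ := by
    intro k
    induction k with
    | zero => intro ν; simp
    | succ k ih =>
      intro ν
      rw [pow_succ', Equiv.Perm.mul_apply]
      change ad x * ((π ^ k) ν : N) * (ad x)⁻¹ = _
      rw [ih, pow_succ']
      group
  obtain ⟨R, h1, h2⟩ := burnside π hm (Equiv.ext fun ν => Subtype.ext (by rw [hπ, h]; simp))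
  have h3 : ∀ ν, ∃ lam : Subring.center A, Un (lam : A) ∧ x * s ν * star x = lam * s (π ν) := fun ν =>
    exists_lam hs hs' (σ.lf_of_norm hx hn (hs ν)) (by
      rw [ad_mul (hx.mul (hs ν).1) hx.st, ad_mul hx (hs ν).1, ad_star hx, hs']
      rfl)
  choose lam h3 h4 using h3
  refine ⟨_, card_Fx_le hc R fun a ha h0 ν => ?_, h2.trans (Finset.sum_congr rfl fun k _ => ?_)⟩
  · have h5 : ∀ ν, co a (π ν) = 0 → co a ν = 0 := fun ν hν => by
      have h6 := co_conj hc π lam h4 a ν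
      rw [ha, mul_assoc, hx.ms, mul_one, hν] at h6
      exact Subtype.ext ((h3 ν).isUnit.mul_right_eq_zero.1 (congrArg Subtype.val h6).symm)
    obtain ⟨k, hk⟩ := h1 ν
    have h7 := h0 _ hk
    clear hk
    induction k with
    | zero => exact h7
    | succ k ih => exact ih (h5 _ (by rw [pow_succ'] at h7; exact h7))
  · rw [← In.card_sub (G := N) (Y := cN N (ad x ^ k)) inf_le_left]
    refine Nat.card_congr (Equiv.subtypeEquivRight fun ν => ?_)
    rw [Subgroup.mem_subgroupOf, mem_cN, Subtype.ext_iff, hπ, mul_inv_eq_iff_eq_mul, and_iff_right ν.2]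

/-- elements of order `r` -/
theorem fx_r {x : A} (hx : Un x) (hn : ∀ ν ∈ N, ad x * ν * (ad x)⁻¹ ∈ N) (h : ad x ^ r = 1) (hne : ad x ≠ 1) :
    ∃ t, Nat.card (Fx x) ≤ Nat.card (Subring.center A) ^ t ∧ t * r ^ 2 ≤ Nat.card N * (2 * r - 1) := by
  have hr := σ.prime.two_le
  by_cases h1 : ad x ∈ N
  · obtain ⟨t, h2, h3⟩ := σ.fx_lf ⟨hx, h1⟩ hne
    refine ⟨t, h2, ?_⟩
    rw [pow_two, ← mul_assoc]
    exact Nat.mul_le_mul h3 (by omega)
  obtain ⟨t, h2, h3⟩ := σ.fx_nm hx hn σ.prime.ne_zero h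
  refine ⟨t, h2, ?_⟩
  obtain ⟨n, rfl⟩ : ∃ n, r = n + 1 := ⟨r - 1, by omega⟩
  rw [Finset.sum_range_succ', pow_zero] at h3
  have h4 : Nat.card (cN N 1) ≤ Nat.card N := Subgroup.card_le_of_le inf_le_left
  have h5 : ∀ k ∈ Finset.range n, Nat.card (cN N (ad x ^ (k + 1))) * (n + 1) ≤ Nat.card N := by
    intro k hk
    refine card_mul_le σ.prime σ.isPGroup inf_le_left fun h6 => h1 (σ.cent hx fun ν hν => ?_)
    have h7 : Nat.Coprime (k + 1) (orderOf (ad x)) :=
      (Nat.coprime_of_lt_prime (by omega) (by simpa using hk) σ.prime).symm.coprime_dvd_right (orderOf_dvd_of_pow_eq_one h)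
    obtain ⟨j, hj⟩ := exists_pow_eq_self_of_coprime h7
    have h8 : Commute (ad x ^ (k + 1)) ν := (mem_cN.1 (h6 hν)).2
    rw [← hj]
    exact h8.pow_left j
  have h6 := Finset.sum_le_sum h5
  rw [← Finset.sum_mul, Finset.sum_const, Finset.card_range, smul_eq_mul] at h6
  rw [pow_two, ← mul_assoc, h3, show 2 * (n + 1) - 1 = n + (n + 1) by omega, add_mul, mul_add (Nat.card N),
    mul_comm (Nat.card N) n]
  exact Nat.add_le_add h6 (Nat.mul_le_mul_right _ h4)

end Sit

/-- elements of order four -/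
theorem Sit.fx_four {F : FR A} {N : Subgroup (RingAut A)} (σ : Sit F N 2) {x : A} (hx : Un x)
    (hn : ∀ ν ∈ N, ad x * ν * (ad x)⁻¹ ∈ N) (h : ad x ^ 4 = 1) (hne : ad x ^ 2 ≠ 1) :
    ∃ t, Nat.card (Fx x) ≤ Nat.card (Subring.center A) ^ t ∧ t * 2 ≤ Nat.card N := by
  by_cases h1 : ad x ^ 2 ∈ N
  · obtain ⟨t, h2, h3⟩ := σ.fx_lf (u := x ^ 2) ⟨hx.pow 2, by rwa [ad_pow hx]⟩ (by rwa [ad_pow hx])
    refine ⟨t, le_trans (Nat.card_le_card_of_injective (fun a : Fx x => (⟨a, ?_⟩ : Fx (x ^ 2))) ?_) h2, h3⟩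
    · exact (show Commute x a from a.2).pow_left 2
    · exact fun a b hab => Subtype.ext (congrArg (fun z : Fx (x ^ 2) => (z : A)) hab)
  obtain ⟨t, h2, h3⟩ := σ.fx_nm hx hn (by norm_num) h
  refine ⟨t, h2, ?_⟩
  have h4 : ¬ N ≤ cN N (ad x ^ 2) := fun h6 => h1 (by
    rw [← ad_pow hx] at h6 ⊢
    exact σ.cent (hx.pow 2) fun ν hν => (mem_cN.1 (h6 hν)).2)
  have h5 : Nat.card (cN N (ad x ^ 2)) * 2 ≤ Nat.card N := card_mul_le σ.prime σ.isPGroup inf_le_left h4
  have h6 : cN N (ad x) ≤ cN N (ad x ^ 2) := fun ν hν =>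
    mem_cN.2 ⟨hν.1, (show Commute (ad x) ν from (mem_cN.1 hν).2).pow_left 2⟩
  have h7 : ¬ cN N (ad x ^ 2) ≤ cN N (ad x) ∨ Nat.card (cN N (ad x ^ 2)) * 4 ≤ Nat.card N := by
    by_contra hc
    rw [not_or, not_not] at hc
    obtain ⟨ν, hν, hν'⟩ := SetLike.not_le_iff_exists.1 h4
    have h8 := hn ν hν
    have h9 : ν⁻¹ * (ad x * ν * (ad x)⁻¹) ∈ cN N (ad x) := by
      refine hc.1 ?_
      by_contra h10
      have h11 : (cN N (ad x ^ 2)).relIndex N * Nat.card (cN N (ad x ^ 2)) = Nat.card N := by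
        rw [← In.card_sub (G := N) (Y := cN N (ad x ^ 2)) inf_le_left]
        exact Subgroup.index_mul_card _
      have : Fact (Nat.Prime 2) := ⟨σ.prime⟩
      obtain ⟨k, hk⟩ := σ.isPGroup.index ((cN N (ad x ^ 2)).subgroupOf N)
      have h12 : (cN N (ad x ^ 2)).relIndex N = 2 := by
        change (cN N (ad x ^ 2)).relIndex N = _ at hk
        rw [hk] at h11 ⊢
        rcases k with _ | _ | k
        · have : 0 < Nat.card (cN N (ad x ^ 2)) := Nat.card_pos
          omega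
        · rfl
        · refine absurd ?_ hc.2
          rw [← h11, mul_comm]
          exact Nat.mul_le_mul_right _ (by
            have : 0 < 2 ^ k := Nat.pos_of_ne_zero (by simp)
            rw [pow_succ, pow_succ]; omega)
      have h13 := (Subgroup.mul_mem_iff_of_index_two h12 (a := ⟨ν⁻¹, N.inv_mem hν⟩) (b := ⟨_, h8⟩)).2 (by
        rw [Subgroup.mem_subgroupOf, Subgroup.mem_subgroupOf, Subgroup.coe_mk, Subgroup.coe_mk, inv_mem_iff]
        refine iff_of_false hν' fun h14 => hν' (mem_cN.2 ⟨hν, ?_⟩)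
        have h15 := (mem_cN.1 h14).2
        calc ad x ^ 2 * ν = (ad x)⁻¹ * (ad x ^ 2 * (ad x * ν * (ad x)⁻¹)) * ad x := by group
          _ = ν * ad x ^ 2 := by rw [h15]; group)
      exact h10 h13
    refine hν' (mem_cN.2 ⟨hν, ?_⟩)
    have h10 := (mem_cN.1 h9).2
    have h11 := σ.exp _ h9.1
    generalize hw : ν⁻¹ * (ad x * ν * (ad x)⁻¹) = w at h10 h11
    have h12 : ad x * ν = ν * w * ad x := by rw [← hw]; group
    rw [pow_two, mul_assoc, h12, ← mul_assoc, ← mul_assoc, h12, mul_assoc _ _ w, h10, ← mul_assoc, mul_assoc ν,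
      ← pow_two, h11, mul_one, mul_assoc]
  have h8 : Nat.card (cN N (ad x)) * 4 ≤ Nat.card N := by
    rcases h7 with h7 | h7
    · have : Nat.card (cN N (ad x)) * 2 ≤ Nat.card (cN N (ad x ^ 2)) :=
        card_mul_le σ.prime (σ.isPGroup.to_le inf_le_left) h6 h7
      omega
    · have := Subgroup.card_le_of_le h6
      omega
  have h9 : cN N (ad x ^ 3) ≤ cN N (ad x) := fun ν hν => mem_cN.2 ⟨hν.1, by
    have e : ad x = (ad x ^ 3) ^ 3 := by rw [← pow_mul, show 3 * 3 = 4 * 2 + 1 from rfl, pow_succ, pow_mul, h]; simp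
    rw [e]
    exact (show Commute (ad x ^ 3) ν from (mem_cN.1 hν).2).pow_left 3⟩
  have h10 := Subgroup.card_le_of_le h9
  have h11 : Nat.card (cN N 1) ≤ Nat.card N := Subgroup.card_le_of_le inf_le_left
  simp only [Finset.sum_range_succ, Finset.range_zero, Finset.sum_empty, pow_zero, pow_one] at h3
  omega

end Cfsg.Agent.TH.Cl.Ext
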