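import Cfsg.Agent.TH.Cl.Ext.Fix

/-!
# S3541, box `Ext`: frames of conjugate idempotents, the context (helper58)
-/

set_option autoImplicit false
set_option linter.unusedSectionVars false

namespace Cfsg.Agent.TH.Cl.Ext

open Cfsg.Agent.DS.Cl Cfsg.Agent.DS.Cl.Fwd Cfsg.Agent.SB.Cl

variable {A : Type} [Ring A] [StarRing A] [Finite A]

/-- orthogonal symmetric idempotents with sum one, conjugate under the unitary group -/
structure Fm {ι : Type} [Fintype ι] (e : ι → A) : Prop where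
  idem : ∀ i, e i * e i = e i
  orth : ∀ i j, i ≠ j → e i * e j = 0
  sum : ∑ i, e i = 1
  symm : ∀ i, star (e i) = e i
  conj : ∀ i j, ∃ u, Un u ∧ u * e i = e j * u

namespace Fm

variable {ι κ : Type} [Fintype ι] [Fintype κ] {e : ι → A} (h : Fm e)
include h

theorem eq_zero {c : A} (hc : c ∈ Subring.center A) {i : ι} (h0 : c * e i = 0) : c = 0 := by
  rw [← mul_one c, ← h.sum, Finset.mul_sum]
  refine Finset.sum_eq_zero fun j _ => ?_
  obtain ⟨u, hu, h1⟩ := h.conj i j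
  refine hu.cancel' ?_
  rw [mul_assoc, ← h1, ← mul_assoc, ← cen_comm hc, mul_assoc, h0, mul_zero, zero_mul]

theorem pow_le (x : A) (R : Finset (ι × ι))
    (hR : ∀ q ∈ R, ∃ c ∈ Subring.center A, x * e q.1 = c * e q.1 ∧ e q.2 * x = c * e q.2) (o : ι) :
    Nat.card A ^ R.card ≤ Nat.card (Fx x) ^ (Fintype.card ι ^ 2) := by
  classical
  choose u hu hu' using h.conj o
  have hs : ∀ i, e o * star (u i) = star (u i) * e i := fun i => by
    have := congrArg star (hu' i)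
    rwa [star_mul, star_mul, h.symm, h.symm] at this
  have h1 : Nat.card A ≤ Nat.card {a : A // e o * a * e o = a} ^ (Fintype.card ι ^ 2) := by
    rw [pow_two, ← Fintype.card_prod, ← Nat.card_eq_fintype_card, ← Nat.card_fun]
    refine Nat.card_le_card_of_injective (fun a => fun q : ι × ι =>
      (⟨star (u q.1) * (e q.1 * a * e q.2) * u q.2, ?_⟩ : {a : A // e o * a * e o = a})) fun a b hab => ?_
    · rw [← mul_assoc, ← mul_assoc, hs, mul_assoc, hu']
      simp only [← mul_assoc, mul_assoc _ (e q.1) (e q.1), mul_assoc _ (e q.2) (e q.2), h.idem]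
    · have h2 : ∀ a : A, a = ∑ i, ∑ j, e i * a * e j := fun a => by
        simp only [← Finset.mul_sum, ← Finset.sum_mul, h.sum, one_mul, mul_one]
      rw [h2 a, h2 b]
      refine Finset.sum_congr rfl fun i _ => Finset.sum_congr rfl fun j _ => ?_
      exact (hu i).st.cancel ((hu j).cancel' (congrArg Subtype.val (congrFun hab (i, j))))
  have h2 : Nat.card {a : A // e o * a * e o = a} ^ R.card ≤ Nat.card (Fx x) := by
    rw [← Fintype.card_coe, ← Nat.card_eq_fintype_card, ← Nat.card_fun]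
    have h3 : ∀ (i j : ι) (b : {a : A // e o * a * e o = a}),
        u i * b * star (u j) = e i * (u i * b * star (u j)) * e j := fun i j b => by
      conv_lhs => rw [← b.2]
      rw [← mul_assoc, ← mul_assoc, hu', mul_assoc _ (e o), hs]
      simp only [mul_assoc]
    refine Nat.card_le_card_of_injective (fun g : R → {a : A // e o * a * e o = a} =>
      (⟨∑ q : R, u q.1.1 * g q * star (u q.1.2), ?_⟩ : Fx x)) fun g g' hg => funext fun q => Subtype.ext ?_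
    · rw [Finset.mul_sum, Finset.sum_mul]
      refine Finset.sum_congr rfl fun q _ => ?_
      obtain ⟨c, h4, h5, h6⟩ := hR _ q.2
      rw [h3, mul_assoc _ _ x, h6, ← mul_assoc x, ← mul_assoc x, h5, ← mul_assoc _ c, cen_comm h4]
      simp only [mul_assoc]
    · have h4 : ∀ g : R → {a : A // e o * a * e o = a},
          e q.1.1 * (∑ q : R, u q.1.1 * g q * star (u q.1.2)) * e q.1.2 = u q.1.1 * g q * star (u q.1.2) := fun g => by
        rw [Finset.mul_sum, Finset.sum_mul, Finset.sum_eq_single q (fun q' _ hq => ?_) (by simp), ← h3]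
        rw [h3]
        by_cases h5 : q.1.1 = q'.1.1
        · have h6 : q'.1.2 ≠ q.1.2 := fun h6 => hq (Subtype.ext (Prod.ext h5.symm h6))
          rw [mul_assoc, mul_assoc, h.orth _ _ h6, mul_zero, mul_zero]
        · rw [← mul_assoc, ← mul_assoc, h.orth _ _ h5, zero_mul, zero_mul, zero_mul]
      have h5 := h4 g
      rw [show ∑ q : R, u q.1.1 * g q * star (u q.1.2) = ∑ q : R, u q.1.1 * g' q * star (u q.1.2) from
        congrArg Subtype.val hg, h4] at h5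
      exact ((hu _).cancel ((hu _).st.cancel' h5)).symm
  calc _ ≤ (Nat.card {a : A // e o * a * e o = a} ^ (Fintype.card ι ^ 2)) ^ R.card := Nat.pow_le_pow_left h1 _
    _ = (Nat.card {a : A // e o * a * e o = a} ^ R.card) ^ (Fintype.card ι ^ 2) := by rw [← pow_mul, ← pow_mul, mul_comm]
    _ ≤ _ := Nat.pow_le_pow_left h2 _

theorem bound {F : FR A} {N : Subgroup (RingAut A)} {r : ℕ} (σ : Sit F N r) {x : A} (R : Finset (ι × ι))
    (hR : ∀ q ∈ R, ∃ c ∈ Subring.center A, x * e q.1 = c * e q.1 ∧ e q.2 * x = c * e q.2) (o : ι) {t : ℕ}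
    (ht : Nat.card (Fx x) ≤ Nat.card (Subring.center A) ^ t) : Nat.card N * R.card ≤ t * Fintype.card ι ^ 2 := by
  have h1 := (h.pow_le x R hR o).trans (Nat.pow_le_pow_left ht _)
  rw [σ.card_eq, ← pow_mul, ← pow_mul] at h1
  exact (Nat.pow_le_pow_iff_right σ.two_le).1 h1

theorem prod {f : κ → A} (h' : Fm f) (hc : ∀ i j, e i * f j = f j * e i)
    (h1 : ∀ i i', ∃ u, Un u ∧ u * e i = e i' * u ∧ ∀ j, u * f j = f j * u)
    (h2 : ∀ j j', ∃ u, Un u ∧ u * f j = f j' * u ∧ ∀ i, u * e i = e i * u) : Fm fun q : ι × κ => e q.1 * f q.2 := by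
  have h3 : ∀ i j i' j', e i * f j * (e i' * f j') = e i * e i' * (f j * f j') := fun i j i' j' => by
    rw [mul_assoc, ← mul_assoc (f j), ← hc, mul_assoc, mul_assoc]
  refine ⟨fun q => by rw [h3, h.idem, h'.idem], fun q q' hq => ?_, ?_, fun q => by rw [star_mul, h.symm, h'.symm, hc],
    fun q q' => ?_⟩
  · rw [h3]
    by_cases h4 : q.1 = q'.1
    · rw [h'.orth _ _ fun h5 => hq (Prod.ext h4 h5), mul_zero]
    · rw [h.orth _ _ h4, zero_mul]
  · rw [Fintype.sum_prod_type]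
    simp only [← Finset.mul_sum, h'.sum, mul_one, h.sum]
  · obtain ⟨u, a1, a2, a3⟩ := h1 q.1 q'.1
    obtain ⟨v, b1, b2, b3⟩ := h2 q.2 q'.2
    refine ⟨u * v, a1.mul b1, ?_⟩
    rw [mul_assoc, ← mul_assoc v, b3, mul_assoc, b2, ← mul_assoc, a2, mul_assoc, ← mul_assoc u, a3]
    simp only [mul_assoc]

end Fm

/-! ### The eigenprojections of a lift -/

/-- the projection to the fixed space of `w` -/
def pr (ρ : A) (r : ℕ) (w : A) : A := ρ * ∑ k ∈ Finset.range r, w ^ k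

section pr

variable {ρ w : A} {r : ℕ} (hρ : ρ ∈ Subring.center A)
include hρ

theorem comm_pr {u w' : A} (h : u * w = w' * u) : u * pr ρ r w = pr ρ r w' * u := by
  rw [pr, pr, ← mul_assoc, cen_comm hρ, mul_assoc, mul_assoc, Finset.mul_sum, Finset.sum_mul]
  exact congrArg _ (Finset.sum_congr rfl fun k _ => (show SemiconjBy u w w' from h).pow_right k)

theorem mul_pr (hw : w ^ r = 1) : w * pr ρ r w = pr ρ r w := by
  have h := mul_geom_sum w r
  rw [hw, sub_self, sub_mul, one_mul, sub_eq_zero] at h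
  rw [pr, ← mul_assoc, cen_comm hρ, mul_assoc, h]

theorem pr_mul_of (h1 : ρ * r = 1) {x : A} (h : w * x = x) : pr ρ r w * x = x := by
  have h2 : ∀ k : ℕ, w ^ k * x = x := fun k => by
    induction k with
    | zero => rw [pow_zero, one_mul]
    | succ k ih => rw [pow_succ, mul_assoc, h, ih]
  rw [pr, mul_assoc, Finset.sum_mul]
  simp only [h2]
  rw [Finset.sum_const, Finset.card_range, nsmul_eq_mul, ← mul_assoc, h1, one_mul]

theorem star_pr (h1 : ρ * r = 1) (hu : Un w) (hw : w ^ r = 1) : star (pr ρ r w) = pr ρ r w := by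
  have h2 : star ρ = ρ := by
    have h3 := congrArg star h1
    rw [star_mul, star_natCast, star_one] at h3
    rw [← one_mul (star ρ), ← h1, mul_assoc, h3, mul_one]
  have h3 : star (pr ρ r w) = pr ρ r (star w) := by
    rw [pr, pr, star_mul, h2, cen_comm hρ, star_sum]
    simp only [star_pow]
  have h4 : star (pr ρ r w) * pr ρ r w = pr ρ r w := by
    rw [h3]
    refine pr_mul_of hρ h1 (hu.cancel ?_)
    rw [← mul_assoc, hu.ms, one_mul, mul_pr hρ hw]
  rw [← h4, star_mul, star_star]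

end pr

namespace Sit

variable {F : FR A} {N : Subgroup (RingAut A)} {r : ℕ} (σ : Sit F N r)
include σ

theorem pow_ne {ζ : A} (h3 : ζ ^ r = 1) (h4 : ζ ≠ 1) {i j : ℕ} (hi : i < r) (hj : j < r) (h1 : ζ ^ i = ζ ^ j) : i = j := by
  have : Fact r.Prime := ⟨σ.prime⟩
  have h2 := orderOf_eq_prime h3 h4
  exact pow_injOn_Iio_orderOf (by rw [h2]; exact hi) (by rw [h2]; exact hj) h1

theorem sum_pr {ρ ζ : A} (hρ' : ρ * r = 1) (h1 : ζ ∈ Subring.center A) (h2 : Un ζ) (h3 : ζ ^ r = 1) (h4 : ζ ≠ 1)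
    (z : A) : ∑ i : Fin r, pr ρ r (ζ ^ (i : ℕ) * z) = 1 := by
  have hc : ∀ i : ℕ, ζ ^ i ∈ Subring.center A := fun i => Subring.pow_mem _ h1 i
  have hp : ∀ i k : ℕ, (ζ ^ i * z) ^ k = (ζ ^ i) ^ k * z ^ k := fun i k =>
    Commute.mul_pow (cen_comm (hc i) z).symm k
  simp only [pr, hp, ← Finset.mul_sum]
  rw [Finset.sum_comm]
  simp only [← Finset.sum_mul]
  rw [Finset.sum_eq_single 0 (fun k hk h0 => ?_) (by simp [σ.prime.ne_zero])]
  · simpa using hρ'
  · have h7 := σ.sub_unit (hc k) (h2.pow k) (Subring.one_mem _) Un.one fun h8 =>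
      h0 (σ.pow_ne h3 h4 (Finset.mem_range.1 hk) σ.prime.pos (by rw [h8, pow_zero]))
    have h8 := mul_geom_sum (ζ ^ k) r
    rw [← pow_mul, mul_comm k, pow_mul, h3, one_pow, sub_self, h7.mul_right_eq_zero,
      ← Fin.sum_univ_eq_sum_range (fun i => (ζ ^ k) ^ i)] at h8
    simp only [← pow_mul, mul_comm k] at h8
    simp only [← pow_mul]
    rw [h8, zero_mul]

/-- the roots of unity are powers of `ζ` -/
theorem exists_pow {ρ ζ κ : A} (hρ : ρ ∈ Subring.center A) (hρ' : ρ * r = 1) (h1 : ζ ∈ Subring.center A) (h2 : Un ζ)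
    (h3 : ζ ^ r = 1) (h4 : ζ ≠ 1) (k1 : κ ∈ Subring.center A) (k2 : Un κ) (k3 : κ ^ r = 1) : ∃ i < r, ζ ^ i * κ = 1 := by
  have := σ.ss.nontrivial
  by_contra h0
  push Not at h0
  refine one_ne_zero ((σ.sum_pr hρ' h1 h2 h3 h4 κ).symm.trans (Finset.sum_eq_zero fun i _ => ?_))
  refine (σ.sub_unit (Subring.mul_mem _ (Subring.pow_mem _ h1 i) k1) ((h2.pow i).mul k2) (Subring.one_mem _) Un.one
    (h0 i i.2)).mul_right_eq_zero.1 ?_
  rw [sub_mul, one_mul, mul_pr hρ, sub_self]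
  rw [Commute.mul_pow (cen_comm k1 _), ← pow_mul, mul_comm, pow_mul, h3, one_pow, k3, mul_one]

/-- the frame of the eigenprojections of `z` -/
theorem fm {ρ ζ z s : A} (hρ : ρ ∈ Subring.center A) (hρ' : ρ * r = 1) (h1 : ζ ∈ Subring.center A) (h2 : Un ζ)
    (h3 : ζ ^ r = 1) (h4 : ζ ≠ 1) (hz : Un z) (hz' : z ^ r = 1) (hs : Un s) (h : s * z = ζ * (z * s)) :
    (Fm fun i : Fin r => pr ρ r (ζ ^ (i : ℕ) * z)) ∧
      ∀ i j : Fin r, ∃ k : ℕ, s ^ k * pr ρ r (ζ ^ (i : ℕ) * z) = pr ρ r (ζ ^ (j : ℕ) * z) * s ^ k := by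
  have hc : ∀ i : ℕ, ζ ^ i ∈ Subring.center A := fun i => Subring.pow_mem _ h1 i
  have hp : ∀ i k : ℕ, (ζ ^ i * z) ^ k = (ζ ^ i) ^ k * z ^ k := fun i k =>
    Commute.mul_pow (cen_comm (hc i) z).symm k
  have hw : ∀ i : ℕ, (ζ ^ i * z) ^ r = 1 := fun i => by rw [hp, ← pow_mul, mul_comm, pow_mul, h3, one_pow, hz', mul_one]
  have h5 : ∀ k i : ℕ, s ^ k * (ζ ^ i * z) = ζ ^ (i + k) * z * s ^ k := by
    intro k
    induction k with
    | zero => simp
    | succ k ih =>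
      intro i
      rw [pow_succ, mul_assoc, ← mul_assoc s, cen_comm (hc i), mul_assoc, h, ← mul_assoc (ζ ^ i), ← pow_succ,
        ← mul_assoc (ζ ^ (i + 1)), ← mul_assoc, ih, mul_assoc, add_assoc, add_comm 1]
  have h6 : ∀ i j : Fin r, ∃ k : ℕ, s ^ k * pr ρ r (ζ ^ (i : ℕ) * z) = pr ρ r (ζ ^ (j : ℕ) * z) * s ^ k := fun i j =>
    ⟨j + r - i, comm_pr hρ (by rw [h5, show (i : ℕ) + (j + r - i) = j + r by omega, pow_add, h3, mul_one])⟩
  refine ⟨⟨fun i => pr_mul_of hρ hρ' (mul_pr hρ (hw i)), fun i j hij => ?_, σ.sum_pr hρ' h1 h2 h3 h4 z,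
    fun i => star_pr hρ hρ' ((h2.pow i).mul hz) (hw i), fun i j => ?_⟩, h6⟩
  · have h7 := σ.sub_unit (hc i) (h2.pow i) (hc j) (h2.pow j) fun h8 => hij (Fin.ext (σ.pow_ne h3 h4 i.2 j.2 h8))
    refine h7.mul_right_eq_zero.1 ?_
    have h8 : pr ρ r (ζ ^ (i : ℕ) * z) * (ζ ^ (i : ℕ) * z) = pr ρ r (ζ ^ (i : ℕ) * z) := by
      rw [← comm_pr hρ rfl, mul_pr hρ (hw i)]
    have h9 := mul_pr hρ (hw j)
    generalize pr ρ r (ζ ^ (i : ℕ) * z) = x at h8
    generalize pr ρ r (ζ ^ (j : ℕ) * z) = y at h9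
    rw [sub_mul, sub_eq_zero]
    calc ζ ^ (i : ℕ) * (x * y) = ζ ^ (i : ℕ) * (x * (ζ ^ (j : ℕ) * z * y)) := by rw [h9]
      _ = ζ ^ (j : ℕ) * (x * (ζ ^ (i : ℕ) * z) * y) := by
        simp only [← mul_assoc, cen_comm (hc i) x, cen_comm (hc j) x]
        rw [cen_comm (hc j) (ζ ^ (i : ℕ))]
      _ = ζ ^ (j : ℕ) * (x * y) := by rw [h8]
  · obtain ⟨k, hk⟩ := h6 i j
    exact ⟨_, hs.pow k, hk⟩

end Sit

/-- the context of the box -/
structure EC (F : FR A) (G H N : Subgroup (RingAut A)) (m p r : ℕ) : Prop where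
  c : Ctx F G H m p
  σ : Sit F N r
  le : N ≤ H
  min : Main.MinN H N

namespace EC

variable {F : FR A} {G H N : Subgroup (RingAut A)} {m p r : ℕ} (E : EC F G H N m p r)
include E

theorem r_dvd : r ∣ Nat.card H / m := by
  have : Fact r.Prime := ⟨E.σ.prime⟩
  by_contra h
  exact E.σ.ne (E.c.in.eq_bot_of_isPGroup h E.le E.min.nrm E.σ.isPGroup)

theorem exists_inv {s : ℕ} (hs : s.Prime) (h : s ≠ p) : ∃ ρ ∈ Subring.center A, ρ * s = 1 := by
  obtain ⟨a, b, e⟩ := Nat.isCoprime_iff_coprime.2 ((Nat.coprime_primes hs E.c.prime).2 h)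
  have h1 := congrArg (Int.cast : ℤ → A) e
  push_cast at h1
  rw [E.c.char, mul_zero, add_zero] at h1
  exact ⟨a, intCast_mem _ a, h1⟩

theorem exists_rho : ∃ ρ ∈ Subring.center A, ρ * r = 1 :=
  E.exists_inv E.σ.prime fun h => E.c.not_dvd_d (h ▸ E.r_dvd)

theorem mem_H {x : A} (hx : Un x) (h : ad x ∈ F.S) (hn : Nm N x) : ad x ∈ H :=
  E.c.in.mem_of_norm E.σ.ne E.le E.min.nrm (E.c.S_le h) (E.σ.norm_of_nm hx hn)

theorem lf_map {γ : RingAut A} (hγ : γ ∈ H) {u : A} (hu : Lf N u) : Lf N (γ u) :=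
  hu.map (E.c.le_SAut hγ) (E.min.nrm γ hγ)

theorem lf_conj {x : A} (hx : Un x) (h : ad x ∈ H) {u : A} (hu : Lf N u) : Lf N (x * u * star x) := by
  rw [← ad_apply hx]
  exact E.lf_map h hu

/-- if `s ∣ d`, every `s`-subgroup of `S` is conjugate into `H` -/
theorem conj_into {s : ℕ} (hs : s.Prime) (h : s ∣ Nat.card H / m) {Y : Subgroup (RingAut A)} (hY : Y ≤ F.S)
    (hp : IsPGroup s Y) : ∃ g : RingAut A, ∀ y ∈ Y, g * y * g⁻¹ ∈ H ⊓ F.S := by
  have : Fact s.Prime := ⟨hs⟩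
  rw [← E.c.in.card_H] at h
  obtain ⟨g, hg⟩ := Alt.exists_cj_le_of_not_dvd (E.c.lie.half.not_dvd_index hs h) (Y := Y.subgroupOf G)
    (hp.comap_of_injective G.subtype G.subtype_injective)
  exact ⟨g, fun y hy => ⟨hg (conj_mem_cj g (x := ⟨y, E.c.S_le (hY hy)⟩) hy), FR.conj_mem_S (E.c.le g.2) (hY hy)⟩⟩

theorem exists_conj {x : A} (hx : Un x) (h : ad x ∈ F.S) {k : ℕ} (hk : ad x ^ r ^ k = 1) :
    ∃ y, Un y ∧ (∀ ν ∈ N, ad y * ν * (ad y)⁻¹ ∈ N) ∧ Nat.card (Fx y) = Nat.card (Fx x) ∧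
      ∀ j : ℕ, ad y ^ j = 1 ↔ ad x ^ j = 1 := by
  have : Fact r.Prime := ⟨E.σ.prime⟩
  obtain ⟨g, hg⟩ := E.conj_into E.σ.prime E.r_dvd (Subgroup.zpowers_le.2 h) (by
    rintro ⟨_, j, rfl⟩
    exact ⟨k, Subtype.ext (by
      change (ad x ^ j) ^ r ^ k = 1
      rw [← zpow_natCast, ← zpow_mul, mul_comm, zpow_mul, zpow_natCast, hk, one_zpow])⟩)
  obtain ⟨h1, h2⟩ := hg _ (Subgroup.mem_zpowers _)
  obtain ⟨y, hy, e⟩ := exists_of_PI (F.S_le_PI h2)
  refine ⟨y, hy, E.min.nrm _ (e ▸ h1), card_Fx hx hy g e, fun j => ?_⟩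
  rw [e, conj_pow, mul_inv_eq_one, mul_eq_left]

/-- **elements of order `r`** -/
theorem bound_r {ι : Type} [Fintype ι] {e : ι → A} (h : Fm e) {x : A} (hx : Un x) (hS : ad x ∈ F.S) (h1 : x ^ r = 1)
    (hne : x ∉ Subring.center A) (R : Finset (ι × ι))
    (hR : ∀ q ∈ R, ∃ c ∈ Subring.center A, x * e q.1 = c * e q.1 ∧ e q.2 * x = c * e q.2) (o : ι) :
    R.card * r ^ 2 ≤ (2 * r - 1) * Fintype.card ι ^ 2 := by
  have h2 : ad x ^ r = 1 := by rw [← ad_pow hx, h1, ad_one]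
  obtain ⟨y, a1, a2, a3, a4⟩ := E.exists_conj hx hS (k := 1) (by rw [pow_one, h2])
  obtain ⟨t, b1, b2⟩ := E.σ.fx_r a1 a2 ((a4 r).2 h2) fun h3 => hne ((ad_eq_one_iff hx).1 (by
    rw [← pow_one (ad x), ← a4, pow_one, h3]))
  have h3 := h.bound E.σ R hR o (a3 ▸ b1)
  refine Nat.le_of_mul_le_mul_left ?_ (Nat.card_pos (α := N))
  calc _ = Nat.card N * R.card * r ^ 2 := by ring
    _ ≤ t * Fintype.card ι ^ 2 * r ^ 2 := Nat.mul_le_mul_right _ h3
    _ = t * r ^ 2 * Fintype.card ι ^ 2 := by ring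
    _ ≤ Nat.card N * (2 * r - 1) * Fintype.card ι ^ 2 := Nat.mul_le_mul_right _ b2
    _ = _ := by ring

end EC

/-- **elements of order four** -/
theorem EC.bound_four {F : FR A} {G H N : Subgroup (RingAut A)} {m p : ℕ} (E : EC F G H N m p 2) {ι : Type} [Fintype ι]
    {e : ι → A} (h : Fm e) {x : A} (hx : Un x) (hS : ad x ∈ F.S) (h1 : x ^ 4 = 1) (hne : x ^ 2 ∉ Subring.center A)
    (R : Finset (ι × ι)) (hR : ∀ q ∈ R, ∃ c ∈ Subring.center A, x * e q.1 = c * e q.1 ∧ e q.2 * x = c * e q.2) (o : ι) :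
    R.card * 2 ≤ Fintype.card ι ^ 2 := by
  have h2 : ad x ^ 4 = 1 := by rw [← ad_pow hx, h1, ad_one]
  obtain ⟨y, a1, a2, a3, a4⟩ := E.exists_conj hx hS (k := 2) h2
  obtain ⟨t, b1, b2⟩ := E.σ.fx_four a1 a2 ((a4 4).2 h2) fun h3 => hne ((ad_eq_one_iff (hx.pow 2)).1 (by
    rw [ad_pow hx, ← a4, h3]))
  have h3 := h.bound E.σ R hR o (a3 ▸ b1)
  refine Nat.le_of_mul_le_mul_left ?_ (Nat.card_pos (α := N))
  calc _ = Nat.card N * R.card * 2 := by ring
    _ ≤ t * Fintype.card ι ^ 2 * 2 := Nat.mul_le_mul_right _ h3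
    _ = t * 2 * Fintype.card ι ^ 2 := by ring
    _ ≤ _ := Nat.mul_le_mul_right _ b2

end Cfsg.Agent.TH.Cl.Ext
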