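import Cfsg.Agent.TH.Cl.Ext.Odd

/-!
# S3541, box `Ext`, `N = 3²`: the involutions of `H ⊓ S` (helper58)
-/

set_option autoImplicit false
set_option linter.unusedSectionVars false

namespace Cfsg.Agent.TH.Cl.Ext

open Cfsg.Agent.DS.Cl Cfsg.Agent.DS.Cl.Fwd Cfsg.Agent.SB.Cl

/-- a `p`-group fixes a second point of an invariant set of size divisible by `p` -/
theorem exists_fix {Γ : Type*} [Group Γ] [Finite Γ] {p : ℕ} (hp : p.Prime) {P : Subgroup Γ} (hP : IsPGroup p P)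
    {X : Set Γ} (h1 : 1 ∈ X) (hX : ∀ γ ∈ P, ∀ x ∈ X, γ * x * γ⁻¹ ∈ X) (hd : p ∣ Nat.card X) :
    ∃ x ∈ X, x ≠ 1 ∧ ∀ γ ∈ P, γ * x = x * γ := by
  have : Fact p.Prime := ⟨hp⟩
  let _ : MulAction P X :=
    { smul := fun γ x => ⟨_, hX γ γ.2 x x.2⟩
      one_smul := fun x => Subtype.ext (by change (1 : Γ) * x * 1⁻¹ = x; group)
      mul_smul := fun γ δ x => Subtype.ext (by
        change (γ : Γ) * δ * x * ((γ : Γ) * δ)⁻¹ = γ * (δ * x * (δ : Γ)⁻¹) * (γ : Γ)⁻¹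
        group) }
  obtain ⟨x, h2, h3⟩ := hP.exists_fixed_point_of_prime_dvd_card_of_fixed_point X hd (a := ⟨1, h1⟩) fun γ =>
    Subtype.ext (by change (γ : Γ) * 1 * (γ : Γ)⁻¹ = 1; group)
  exact ⟨x, x.2, fun h => h3 (Subtype.ext h.symm), fun γ hγ =>
    mul_inv_eq_iff_eq_mul.1 (congrArg Subtype.val (h2 ⟨γ, hγ⟩))⟩

theorem dvd_card_sub {Γ : Type*} [Group Γ] [Finite Γ] {l : ℕ} (hl : l.Prime) {x : Γ} (hx : x ^ l = 1) {N : Subgroup Γ}
    (hN : ∀ ν ∈ N, x * ν * x⁻¹ ∈ N) : Nat.card N ≡ Nat.card ↥(N ⊓ Subgroup.centralizer {x}) [MOD l] := by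
  have : Fact l.Prime := ⟨hl⟩
  have h1 : ∀ γ ∈ Subgroup.zpowers x, ∀ ν ∈ N, γ * ν * γ⁻¹ ∈ N := fun γ hγ ν hν =>
    (Subgroup.mem_normalizer_iff.1 (Subgroup.zpowers_le.2 (Subgroup.mem_normalizer_fintype hN) hγ) ν).1 hν
  let _ : MulAction (Subgroup.zpowers x) N :=
    { smul := fun γ ν => ⟨_, h1 γ γ.2 ν ν.2⟩
      one_smul := fun x => Subtype.ext (by change (1 : Γ) * x * 1⁻¹ = x; group)
      mul_smul := fun γ δ x => Subtype.ext (by
        change (γ : Γ) * δ * x * ((γ : Γ) * δ)⁻¹ = γ * (δ * x * (δ : Γ)⁻¹) * (γ : Γ)⁻¹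
        group) }
  have hP : IsPGroup l (Subgroup.zpowers x) := by
    rintro ⟨_, j, rfl⟩
    exact ⟨1, Subtype.ext (by
      change (x ^ j) ^ l ^ 1 = 1
      rw [pow_one, ← zpow_natCast, ← zpow_mul, mul_comm, zpow_mul, zpow_natCast, hx, one_zpow])⟩
  have h2 := hP.card_modEq_card_fixedPoints N
  rwa [show Nat.card (MulAction.fixedPoints (Subgroup.zpowers x) N) = Nat.card ↥(N ⊓ Subgroup.centralizer {x}) from ?_]
    at h2
  rw [← In.card_sub (G := N) (Y := N ⊓ Subgroup.centralizer {x}) inf_le_left]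
  refine Nat.card_congr (Equiv.subtypeEquivRight fun ν => ⟨fun h => ⟨ν.2, ?_⟩, fun h γ => Subtype.ext ?_⟩)
  · exact Subgroup.mem_centralizer_singleton_iff.2
      (mul_inv_eq_iff_eq_mul.1 (congrArg Subtype.val (h ⟨x, Subgroup.mem_zpowers x⟩))).symm
  · obtain ⟨_, j, rfl⟩ := γ
    have h3 : Commute (ν : Γ) x := Subgroup.mem_centralizer_singleton_iff.1 h.2
    exact mul_inv_eq_iff_eq_mul.2 (h3.zpow_right j).symm

/-- the four-group generated by two commuting involutions -/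
def four {Γ : Type*} [Group Γ] {a b : Γ} (ha : a * a = 1) (hb : b * b = 1) (h : Commute a b) : Subgroup Γ where
  carrier := {x | x * x = 1 ∧ ∃ i j : ℕ, x = a ^ i * b ^ j}
  mul_mem' := by
    rintro _ _ ⟨-, i, j, rfl⟩ ⟨-, k, l, rfl⟩
    have e : a ^ i * b ^ j * (a ^ k * b ^ l) = a ^ (i + k) * b ^ (j + l) := by
      rw [(h.pow_pow k j).symm.mul_mul_mul_comm, pow_add, pow_add]
    refine ⟨?_, _, _, e⟩
    rw [e, (h.pow_pow _ _).symm.mul_mul_mul_comm, ← (Commute.refl a).mul_pow, ← (Commute.refl b).mul_pow, ha, hb]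
    simp
  one_mem' := ⟨one_mul 1, 0, 0, by simp⟩
  inv_mem' := by
    intro x hx
    rwa [inv_eq_of_mul_eq_one_right hx.1]

variable {A : Type} [Ring A] [StarRing A] [Finite A]

namespace EC

variable {F : FR A} {G H N : Subgroup (RingAut A)} {m p : ℕ} (E : EC F G H N m p 3)
include E

theorem eq_one_of_sq {x : RingAut A} (hx : x ∈ N) (h : x * x = 1) : x = 1 := by
  have h1 := E.σ.exp x hx
  rwa [pow_succ, pow_two, h, one_mul] at h1

theorem card_le_nine : Nat.card N ≤ 9 := by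
  obtain ⟨z, a1, a2⟩ := E.exists_not_cen
  obtain ⟨s, a3, a4⟩ := E.exists_not_comm a2
  exact E.card_le a1 a3 a4.symm fun w hw h1 h2 => E.three a1 a3 a4 hw h1 h2

/-- the involutions of `H ⊓ S` invert `N` -/
theorem inverts {t : RingAut A} (ht : t ∈ H ⊓ F.S) (h1 : t * t = 1) (h2 : t ≠ 1) : ∀ ν ∈ N, t * ν * t⁻¹ = ν⁻¹ := by
  intro ν hν
  by_contra h3
  obtain ⟨τ, hτ, rfl⟩ := exists_of_PI (F.S_le_PI ht.2)
  have hi : (ad τ)⁻¹ = ad τ := inv_eq_of_mul_eq_one_right h1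
  have hn := E.min.nrm _ ht.1
  obtain ⟨μ, hμ, h4⟩ : ∃ μ ∈ N, ad τ * μ ≠ μ * ad τ := by
    by_contra h4
    push Not at h4
    exact h2 (E.eq_one_of_sq (E.σ.cent hτ h4) h1)
  obtain ⟨β, b1, b2⟩ := E.σ.exists_lf (N.mul_mem (hn ν hν) hν)
  obtain ⟨γ, c1, c2⟩ := E.σ.exists_lf (N.mul_mem (hn μ hμ) (N.inv_mem hμ))
  have b3 : β ∉ Subring.center A := fun h => h3 (eq_inv_of_mul_eq_one_left (b2 ▸ ad_cen h))
  have b4 : ad τ * ad β * (ad τ)⁻¹ = ad β := by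
    rw [b2, ← E.σ.comm _ hν _ (hn ν hν)]
    nth_rewrite 1 [← E.σ.comm _ (hn ν hν) _ hν]
    calc _ = ad τ * ad τ * ν * (ad τ * ad τ)⁻¹ * (ad τ * ν * (ad τ)⁻¹) := by group
      _ = _ := by rw [h1]; group
  have c4 : ad τ * ad γ * (ad τ)⁻¹ = (ad γ)⁻¹ := by
    rw [c2]
    calc _ = ad τ * ad τ * μ * (ad τ * ad τ)⁻¹ * (ad τ * μ⁻¹ * (ad τ)⁻¹) := by group
      _ = _ := by rw [h1]; group
  have hs := E.c.le_SAut ht.1
  obtain ⟨x, x1, x2, x3⟩ := (ad_eq_iff (b1.1.map hs) b1.1).1 ((conj_ad _ b1.1).symm.trans b4)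
  obtain ⟨y, y1, y2, y3⟩ := (ad_eq_iff (c1.1.map hs) c1.1.st).1 ((conj_ad _ c1.1).symm.trans (c4.trans
    (ad_star c1.1).symm))
  obtain ⟨κ, k1, k2, k3⟩ := E.exists_cm b1 c1
  have h5 : β * γ = γ * β := by
    refine k3.eq (by_contra fun h5 => E.ne_star (by omega) k1 k2 h5 ?_)
    have h6 := congrArg (ad τ) k3.2
    rw [map_mul, map_mul, map_mul, F.PI_le_Lin (E.σ.mem_PI hτ) κ k3.1, x3, y3, cen_mul_mul y1, cen_mul_mul x1,
      cen_comm x1 y, ← mul_assoc κ, ← cen_comm k3.1, mul_assoc _ κ] at h6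
    have h7 := (x2.mul y2).cancel h6
    have h8 : β * star γ = star κ * (star γ * β) := by
      refine c1.1.cancel (c1.1.cancel' ?_)
      rw [mul_assoc, mul_assoc, c1.1.sm, mul_one, ← mul_assoc γ, cen_comm (star_cen k3.1), mul_assoc (star κ),
        ← mul_assoc γ, c1.1.ms, one_mul, mul_assoc, k3.2, ← mul_assoc, k1.sm, one_mul]
    exact (c1.1.st.mul b1.1).cancel' (h7.symm.trans h8)
  obtain ⟨v, v1, v2⟩ := E.exists_not_comm b3
  obtain ⟨i, -, j, hj, e1, e2⟩ := E.split b1 v1 v2.symm c1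
  have h6 := ad_cen (E.three b1 v1 v2 (((b1.pow i).mul (v1.pow j)).mul c1) e1 e2)
  obtain ⟨κ', l1, l2, l3⟩ := E.exists_cm b1 v1
  have h7 : j = 0 := by
    have h8 := ((((Cm.of_eq (a := β) rfl).pow i).mul (l3.pow j)).mul (Cm.of_eq h5)).2
    rw [e1, one_pow, one_mul, mul_one] at h8
    have h9 := ((((b1.pow i).mul (v1.pow j)).mul c1).mul b1).1.cancel' ((one_mul _).trans h8)
    exact E.σ.pow_ne l2 (fun h => v2 (l3.eq h).symm) hj (by omega) (h9.symm.trans (pow_zero _).symm)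
  rw [h7, pow_zero, mul_one, ad_mul (b1.1.pow i) c1.1, ad_pow b1.1] at h6
  have h8 : Commute (ad τ) (ad γ) := by
    rw [eq_inv_of_mul_eq_one_right h6]
    exact ((show Commute (ad τ) (ad β) from mul_inv_eq_iff_eq_mul.1 b4).pow_right i).inv_right
  rw [h8.eq, mul_inv_cancel_right] at c4
  have h9 := E.eq_one_of_sq c1.2 (mul_eq_one_iff_eq_inv.2 c4)
  rw [c2, mul_inv_eq_one, mul_inv_eq_iff_eq_mul] at h9
  exact h4 h9

theorem exists_invol : ∃ t ∈ H ⊓ F.S, t * t = 1 ∧ t ≠ 1 := by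
  by_contra h0
  push Not at h0
  have : Fact (Nat.Prime 3) := ⟨E.σ.prime⟩
  have h1 : IsPGroup 3 ↥(H ⊓ F.S) := by
    refine IsPGroup.iff_card.2 ⟨_, Nat.eq_prime_pow_of_unique_prime_dvd Nat.card_pos.ne' fun {l} hl hd => ?_⟩
    have : Fact l.Prime := ⟨hl⟩
    obtain ⟨x, hx⟩ := exists_prime_orderOf_dvd_card' l hd
    have h2 : (x : RingAut A) ^ l = 1 := by rw [← hx]; exact congrArg Subtype.val (pow_orderOf_eq_one x)
    have h3 : (x : RingAut A) ≠ 1 := fun h => hl.one_lt.ne' (by rw [← hx, show x = 1 from Subtype.ext h, orderOf_one])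
    have h4 : l ≠ 2 := by
      rintro rfl
      exact h3 (h0 _ x.2 (by rwa [← pow_two]))
    by_cases h5 : N ≤ cN N x
    · obtain ⟨τ, hτ, e⟩ := exists_of_PI (F.S_le_PI x.2.2)
      have h6 := E.σ.exp _ (E.σ.cent hτ fun ν hν => e ▸ (mem_cN.1 (h5 hν)).2)
      rw [e] at h6
      exact (orderOf_eq_prime h2 h3).symm.trans (orderOf_eq_prime h6 h3)
    have h6 : Nat.card (cN N x) * 3 ≤ Nat.card N := card_mul_le E.σ.prime E.σ.isPGroup inf_le_left h5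
    have h7 : Nat.card (cN N x) ≡ Nat.card N [MOD l] := (dvd_card_sub hl h2 (E.min.nrm _ x.2.1)).symm
    have h8 := E.card_le_nine
    obtain ⟨a, ha⟩ := IsPGroup.iff_card.1 E.σ.isPGroup
    obtain ⟨b, hb⟩ := IsPGroup.iff_card.1 (E.σ.isPGroup.to_le (inf_le_left : cN N x ≤ N))
    rw [ha] at h6 h7 h8
    rw [hb] at h6 h7
    have h9 : a ≤ 2 := (Nat.pow_le_pow_iff_right (by norm_num)).1 (h8.trans (by norm_num : 9 ≤ 3 ^ 2))
    have h10 : b + 1 ≤ a := (Nat.pow_le_pow_iff_right (by norm_num : 1 < 3)).1 h6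
    have h11 : l ∣ 2 ^ 3 * 3 := by
      have h12 := (Nat.modEq_iff_dvd' (Nat.pow_le_pow_right (by norm_num) (by omega))).1 h7
      have h13 : b ≤ 1 := by omega
      interval_cases a <;> interval_cases b <;> first | omega | exact h12.trans (by norm_num)
    rcases (Nat.Prime.dvd_mul hl).1 h11 with h | h
    · exact absurd ((Nat.prime_dvd_prime_iff_eq hl Nat.prime_two).1 (hl.dvd_of_dvd_pow h)) h4
    · exact (Nat.prime_dvd_prime_iff_eq hl Nat.prime_three).1 h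
  obtain ⟨x, x1, x2, x3⟩ := exists_fix E.σ.prime h1 (X := N) N.one_mem (fun γ hγ => E.min.nrm γ hγ.1)
    (E.σ.isPGroup.card_eq_or_dvd.resolve_left fun h => E.σ.ne (Subgroup.card_eq_one.1 h))
  rcases E.min.min (N ⊓ Subgroup.centralizer ↑(H ⊓ F.S)) inf_le_left (fun γ hγ y hy => ⟨E.min.nrm γ hγ y hy.1,
    fun w hw => by
      have h2 := hy.2 _ (E.c.conj_inf (H.inv_mem hγ) hw)
      calc w * (γ * y * γ⁻¹) = γ * (γ⁻¹ * w * γ⁻¹⁻¹ * y) * γ⁻¹ := by group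
        _ = _ := by rw [h2]; group⟩) with h2 | h2
  · exact x2 (Subgroup.mem_bot.1 (h2 ▸ (⟨x1, x3⟩ : x ∈ N ⊓ Subgroup.centralizer ↑(H ⊓ F.S))))
  · have h3 : H ⊓ F.S ≤ N := fun w hw => by
      obtain ⟨τ, hτ, rfl⟩ := exists_of_PI (F.S_le_PI hw.2)
      exact E.σ.cent hτ fun ν hν => (h2.ge hν).2 _ hw
    exact E.c.inf_not_comm fun a ha b hb => E.σ.comm _ (h3 ha) _ (h3 hb)

/-- a four-group of `S` shows that `d` is odd -/
theorem not_two_dvd {a b : RingAut A} (ha : a ∈ F.S) (hb : b ∈ F.S) (h1 : a * a = 1) (h2 : b * b = 1) (h : Commute a b)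
    (h3 : a ≠ 1) (h4 : b ≠ 1) (h5 : a * b ≠ 1) : ¬ 2 ∣ Nat.card H / m := by
  intro hd
  obtain ⟨g, hg⟩ := E.conj_into Nat.prime_two hd (Y := four h1 h2 h) (by
    rintro _ ⟨-, i, j, rfl⟩
    exact mul_mem (pow_mem ha i) (pow_mem hb j)) fun x => ⟨1, Subtype.ext ((pow_two _).trans x.2.1)⟩
  have key : ∀ y ∈ four h1 h2 h, y ≠ 1 → ∀ ν ∈ N, g * y * g⁻¹ * ν * (g * y * g⁻¹)⁻¹ = ν⁻¹ := fun y hy h6 =>
    E.inverts (hg y hy) (by rw [conj_mul, hy.1]; group) fun h7 => h6 (by rwa [mul_inv_eq_one, mul_eq_left] at h7)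
  have a1 : a ∈ four h1 h2 h := ⟨h1, 1, 0, by simp⟩
  have b1 : b ∈ four h1 h2 h := ⟨h2, 0, 1, by simp⟩
  refine E.σ.ne (eq_bot_iff.2 fun ν hν => E.eq_one_of_sq hν (mul_eq_one_iff_eq_inv.2 ?_))
  rw [← key _ (mul_mem a1 b1) h5 ν hν, ← conj_mul, mul_inv_rev, mul_assoc (g * a * g⁻¹), mul_assoc (g * a * g⁻¹),
    ← mul_assoc _ (g * b * g⁻¹)⁻¹, key _ b1 h4 ν hν, ← mul_assoc, key _ a1 h3 _ (N.inv_mem hν), inv_inv]

end EC

end Cfsg.Agent.TH.Cl.Ext
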