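import Cfsg.Agent.TH.Cl.Ext.TwoC

/-!
# S3541, box `Ext`, `r = 2`: the end (helper58)
-/

set_option autoImplicit false
set_option linter.unusedSectionVars false

namespace Cfsg.Agent.TH.Cl.Ext

open Cfsg.Agent.DS.Cl Cfsg.Agent.DS.Cl.Fwd Cfsg.Agent.SB.Cl

variable {A : Type} [Ring A] [StarRing A] [Finite A]

/-- the algebra of a pair -/
def Bc (a b : A) : Subring A := Subring.closure ((Subring.center A : Set A) ∪ {a, b})

theorem Bc.cen (a b : A) : Subring.center A ≤ Bc a b := fun _ h => Subring.subset_closure (Or.inl h)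

theorem Bc.l (a b : A) : a ∈ Bc a b := Subring.subset_closure (Or.inr (Or.inl rfl))

theorem Bc.r (a b : A) : b ∈ Bc a b := Subring.subset_closure (Or.inr (Or.inr rfl))

theorem Bc.le {a b : A} {B : Subring A} (h : Subring.center A ≤ B) (ha : a ∈ B) (hb : b ∈ B) : Bc a b ≤ B :=
  Subring.closure_le.2 (by
    rintro x (h1 | rfl | rfl)
    exacts [h h1, ha, hb])

theorem Bc.comm {a b x y : A} (h1 : Commute x a) (h2 : Commute x b) (hy : y ∈ Bc a b) : Commute x y :=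
  Bc.le (B := Subring.centralizer {x}) (Subring.center_le_centralizer _) (fun _ h => h ▸ h1) (fun _ h => h ▸ h2) hy x rfl

theorem Bc.map (γ : RingAut A) {a b x : A} (hx : x ∈ Bc a b) : γ x ∈ Bc (γ a) (γ b) :=
  Bc.le (B := (Bc (γ a) (γ b)).comap (γ : A →+* A)) (fun _ h => Bc.cen _ _ (map_cen γ h)) (Bc.l _ _) (Bc.r _ _) hx

theorem Bc.st {N : Subgroup (RingAut A)} {z a b x : A} (q : Qz N z a b) (hx : x ∈ Bc a b) : star x ∈ Bc a b := by
  induction hx using Subring.closure_induction with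
  | mem x h =>
    rcases h with h | rfl | rfl
    · exact Bc.cen _ _ (star_cen h)
    · rw [q.sa]; exact neg_mem (Bc.l _ _)
    · rw [q.sb]; exact neg_mem (Bc.r _ _)
  | zero => rw [star_zero]; exact zero_mem _
  | one => rw [star_one]; exact one_mem _
  | add x y _ _ hx hy => rw [star_add]; exact add_mem hx hy
  | neg x _ hx => rw [star_neg]; exact neg_mem hx
  | mul x y _ _ hx hy => rw [star_mul]; exact mul_mem hy hx

theorem T1.mem {a b t : A} (h : T1 a b t) : t ∈ Bc a b := by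
  rcases h with rfl | rfl | rfl | rfl
  exacts [one_mem _, Bc.l _ _, Bc.r _ _, mul_mem (Bc.l _ _) (Bc.r _ _)]

theorem Bc.eq {N : Subgroup (RingAut A)} {a b a' b' : A} (q : Qz N 1 a b) (e : a' * b' ≠ b' * a') (ha : Tz 1 a b a')
    (hb : Tz 1 a b b') : Bc a' b' = Bc a b := by
  refine q.ind Lf.one (one_mul 1) (P := fun x y => Bc x y = Bc a b) rfl
    (le_antisymm (Bc.le (Bc.cen _ _) (Bc.r _ _) (Bc.l _ _)) (Bc.le (Bc.cen _ _) (Bc.r _ _) (Bc.l _ _)))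
    (fun x y r h => h ▸ le_antisymm (Bc.le (Bc.cen _ _) (Bc.r _ _) (mul_mem (Bc.l _ _) (Bc.r _ _)))
      (Bc.le (Bc.cen _ _) ?_ (Bc.l _ _)))
    (fun x y r h => h ▸ le_antisymm (Bc.le (Bc.cen _ _) (neg_mem (Bc.l _ _)) (Bc.r _ _))
      (Bc.le (Bc.cen _ _) (neg_mem_iff.1 (Bc.l _ _)) (Bc.r _ _))) (fun x y r h => by rwa [one_mul]) e ha hb
  have h1 := mul_mem (Bc.l y (x * y)) (Bc.r y (x * y))
  rwa [r.bab] at h1

theorem Hy.ne_comm [Nontrivial A] {N : Subgroup (RingAut A)} {h z y : A} (k : Hy N z y) (hh : Hf h) : z * y ≠ y * z :=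
  fun e => (k.lz.mul k.ly).1.isUnit.ne_zero (hh.eq_zero (e.trans k.yz))

namespace EC

variable {F : FR A} {G H N : Subgroup (RingAut A)} {m p : ℕ} (E : EC F G H N m p 2)
include E

theorem qz_map {γ : RingAut A} (hγ : γ ∈ H) {z a b : A} (q : Qz N z a b) : Qz N (γ z) (γ a) (γ b) :=
  ⟨E.lf_map hγ q.la, E.lf_map hγ q.lb, by rw [← map_mul, q.aa, map_neg, map_one],
    by rw [← map_mul, q.bb, map_neg, map_one], by rw [← map_mul, q.ba, map_neg, map_mul], by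
    rw [← map_mul, q.za, map_mul], by rw [← map_mul, q.zb, map_mul]⟩

/-- **the tensor case** -/
theorem ten (hI : Irr2 H) {a b a₂ b₂ : A} (q : Qz N 1 a b) (r : Qz N 1 a₂ b₂) (h1 : Commute a₂ a) (h2 : Commute a₂ b)
    (h3 : Commute b₂ a) (h4 : Commute b₂ b)
    (hc : ∀ w, Lf N w → Commute a w → Commute b w → Commute a₂ w → Commute b₂ w → w ∈ Subring.center A) (hi : NoI A) :
    TenD H := by
  obtain ⟨h, hh⟩ := E.exists_hf
  have := E.σ.ss.nontrivial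
  have c0 : ∀ {x y}, Qz N 1 x y → x ∉ Subring.center A := fun s e => s.ne_comm hh (cen_comm e _).symm
  have c1 : ∀ {x y}, Qz N 1 x y → Tz 1 a b x ∨ Tz 1 a₂ b₂ x := fun s =>
    E.fin₂ q q r r h1 h2 h3 h4 (fun w hw _ _ => hc w hw) hi s.la s.aa (c0 s) s.za s.za
  have c2 : ∀ {x y}, Qz N 1 x y → Bc x y = Bc a b ∨ Bc x y = Bc a₂ b₂ := fun s => by
    rcases c1 s with e1 | e1 <;> rcases c1 s.swap with e2 | e2
    · exact Or.inl (Bc.eq q (s.ne_comm hh) e1 e2)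
    · exact absurd (e1.cross r h1 h2 h3 h4 e2 s.za) (s.ne_comm hh)
    · exact absurd (e2.cross r h1 h2 h3 h4 e1 s.zb) (s.swap.ne_comm hh)
    · exact Or.inr (Bc.eq r (s.ne_comm hh) e1 e2)
  have c3 : ∀ x ∈ Bc a b, ∀ y ∈ Bc a₂ b₂, x * y = y * x := fun x hx y hy =>
    Bc.comm (Bc.comm h1 h2 hx).symm (Bc.comm h3 h4 hx).symm hy
  refine ⟨hI, {B | ∃ x y, Qz N 1 x y ∧ B = Bc x y}, ⟨_, ⟨a, b, q, rfl⟩, _, ⟨a₂, b₂, r, rfl⟩, fun e =>
    q.ne_comm hh (c3 _ (Bc.l _ _) _ (e ▸ Bc.r _ _))⟩, ?_, ?_, ?_, ?_, ?_, ?_⟩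
  · rintro _ ⟨x, y, -, rfl⟩
    exact Bc.cen x y
  · rintro _ ⟨x, y, s, rfl⟩ e
    exact c0 s (e (Bc.l x y))
  · rintro _ ⟨x, y, s, rfl⟩ w hw
    exact Bc.st s hw
  · rintro _ ⟨x, y, s, rfl⟩ _ ⟨x', y', s', rfl⟩ e
    rcases c2 s with e1 | e1 <;> rcases c2 s' with e2 | e2 <;> rw [e1, e2] at e ⊢
    exacts [absurd rfl e, c3, fun x hx y hy => (c3 y hy x hx).symm, absurd rfl e]
  · have d : ∀ {x y w}, Qz N 1 x y → w ∈ Bc x y →
        w ∈ Subring.closure (⋃ B ∈ {B | ∃ x y, Qz N 1 x y ∧ B = Bc x y}, (B : Set A)) := fun {x y w} s hw =>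
      Subring.subset_closure (Set.mem_biUnion (⟨x, y, s, rfl⟩ : _ ∈ {B | ∃ x y, Qz N 1 x y ∧ B = Bc x y}) hw)
    refine eq_top_iff.2 fun w _ => E.σ.ind (fun c hc' u hu => mul_mem (d q (Bc.cen _ _ hc')) ?_) (fun _ _ => add_mem) w
    obtain ⟨t, t', d1, d2, d3⟩ := E.dec₂ q q r r h1 h2 h3 h4 (fun w hw _ _ => hc w hw) hu (Commute.one_left u)
      (Commute.one_left u)
    have d4 := mul_mem (d q (Bc.st q d1.mem)) (mul_mem (d r (Bc.st r d2.mem)) (d q (Bc.cen _ _ d3)))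
    rwa [← mul_assoc (star t'), (d2.lf r.la r.lb).1.sm, one_mul, ← mul_assoc, (d1.lf q.la q.lb).1.sm, one_mul] at d4
  · rintro γ hγ _ ⟨x, y, s, rfl⟩
    refine ⟨γ x, γ y, by simpa only [map_one] using E.qz_map hγ s, Main.map_eq_of (fun _ => Bc.map γ) fun w hw => ?_⟩
    have d := Bc.map γ⁻¹ hw
    rwa [show γ⁻¹ (γ x) = x from γ.symm_apply_apply x, show γ⁻¹ (γ y) = y from γ.symm_apply_apply y] at d

theorem exists_third (hN : 4 < Nat.card N) {u v : A} (hu : Lf N u) (hv : Lf N v) (h : u * v ≠ v * u) :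
    ∃ w, Lf N w ∧ Commute u w ∧ Commute v w ∧ w ∉ Subring.center A := by
  by_contra h1
  push Not at h1
  exact absurd (E.card_le hu hv h h1) (by omega)

theorem exists_z (hN : 4 < Nat.card N) {P : Subgroup (RingAut A)} (hP : P ≤ H) (hp : IsPGroup 2 P) :
    ∃ z, Lf N z ∧ z * z = 1 ∧ z ∉ Subring.center A ∧ ∀ γ ∈ P, γ * ad z = ad z * γ := by
  classical
  have : Fact (Nat.Prime 2) := ⟨Nat.prime_two⟩
  obtain ⟨ν, a1, a2, a3⟩ := exists_fix Nat.prime_two hp (X := N) N.one_mem (fun γ hγ => E.min.nrm γ (hP hγ))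
    (E.σ.isPGroup.card_eq_or_dvd.resolve_left (by omega))
  obtain ⟨u, hu, rfl⟩ := E.σ.exists_lf a1
  have h0 : ∀ {z}, Lf N z → z * z = 1 → ad z ≠ 1 → (∀ γ ∈ P, γ * ad z = ad z * γ) →
      ∃ z, Lf N z ∧ z * z = 1 ∧ z ∉ Subring.center A ∧ ∀ γ ∈ P, γ * ad z = ad z * γ :=
    fun {z} h1 h2 h3 h4 => ⟨z, h1, h2, fun e => h3 (ad_cen e), h4⟩
  by_cases hi : ¬ NoI A
  · obtain ⟨z, b1, b2, b3⟩ := (E.norm_i hi hu).1
    exact h0 b1 b3 (b2 ▸ a2) (b2 ▸ a3)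
  rw [not_not] at hi
  obtain ⟨j, hj, b2, jj⟩ := E.norm hu
  rw [← b2] at a2 a3
  refine jj.elim (fun jj => h0 hj jj a2 a3) fun jj => ?_
  obtain ⟨s, hs, b3⟩ := E.exists_not_comm fun e => a2 (ad_cen e)
  obtain ⟨w, hw, b4, b5, b6⟩ := E.exists_third hN hs hj b3
  have ww : ad w * ad w = 1 := (pow_two _).symm.trans (E.σ.exp _ hw.2)
  obtain ⟨X, hX⟩ : ∃ X : Set (RingAut A), ∀ ν, ν ∈ X ↔ ∃ u, Lf N u ∧ ad u = ν ∧ u * u = 1 ∧ Commute j u :=
    ⟨{ν | _}, fun _ => Iff.rfl⟩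
  obtain ⟨ν, c1, c2, c3⟩ := exists_fix Nat.prime_two hp (X := X) ((hX _).2 ⟨1, Lf.one, ad_one, one_mul 1, Commute.one_right j⟩)
    (fun γ hγ ν hν => by
      obtain ⟨u, d1, rfl, d2, d3⟩ := (hX _).1 hν
      have hs := E.c.le_SAut (hP hγ)
      exact (hX _).2 ⟨γ u, E.lf_map (hP hγ) d1, (conj_ad γ d1.1).symm, by rw [← map_mul, d2, map_one],
        (cm_of_ad (hj.1.map hs) hj.1 (by rw [← conj_ad γ hj.1, a3 γ hγ, mul_inv_cancel_right]) (d3.symm.map γ)).symm⟩)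
    (two_dvd_card (fun ν => if ν * ad w ∈ X then ν * ad w else ν * ad w * ad j) (fun ν hν => by
      split_ifs with h
      · exact h
      obtain ⟨u, d1, rfl, d2, d3⟩ := (hX _).1 hν
      obtain ⟨v, e1, e2, e3⟩ := E.norm (d1.mul hw)
      have e4 := (cm_of_ad (d1.mul hw).1 e1.1 e2 (d3.mul_right b5))
      rw [ad_mul d1.1 hw.1] at e2
      exact (hX _).2 ⟨v * j, e1.mul hj, by rw [ad_mul e1.1 hj.1, e2], by
        rw [e4.mul_mul_mul_comm, jj, e3.resolve_left fun e => h ((hX _).2 ⟨v, e1, e2, e, e4⟩), neg_mul_neg, one_mul],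
        e4.mul_right (Commute.refl j)⟩) (fun ν hν => by
      by_cases h : ν * ad w ∈ X
      · simp only [if_pos h, mul_assoc ν, ww, mul_one, if_pos hν]
      have e1 : ν * ad w * ad j * ad w = ν * ad j := by
        rw [mul_assoc _ (ad j), E.σ.comm _ hj.2 _ hw.2, ← mul_assoc, mul_assoc ν, ww, mul_one]
      simp only [if_neg h, e1]
      rw [if_neg, mul_assoc, ← pow_two, E.σ.exp _ hj.2, mul_one]
      intro h'
      obtain ⟨u, d1, rfl, d2, d3⟩ := (hX _).1 hν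
      obtain ⟨u', f1, f2, f3, -⟩ := (hX _).1 h'
      obtain ⟨κ, g1, g2, rfl⟩ := (ad_eq_iff f1.1 (d1.mul hj).1).1 (by rw [f2, ad_mul d1.1 hj.1])
      rw [cen_mul_mul g1, d3.mul_mul_mul_comm, d2, jj, one_mul, mul_neg, mul_one, neg_eq_iff_eq_neg] at f3
      exact hi κ g1 g2 f3) fun ν hν => by
      split_ifs with h
      · exact fun e => b6 ((ad_eq_one_iff hw.1).1 (mul_eq_left.1 e))
      · intro e
        rw [mul_assoc, mul_eq_left, ← ad_mul hw.1 hj.1, ad_eq_one_iff (hw.mul hj).1] at e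
        exact b3 (hw.1.cm b4 (cen_comm e s)))
  obtain ⟨z, d1, rfl, d2, -⟩ := (hX _).1 c1
  exact h0 d1 d2 c2 c3

theorem caseQ {z y a b : A} (k : Hy N z y) (yy : y * y = 1) {P : Subgroup (RingAut A)} (hP : P ≤ H)
    (h1 : ¬ 2 ∣ P.relIndex H) (h2 : ∀ γ ∈ P, γ * ad z = ad z * γ) (q : Qz N z a b) (q' : Qz N y a b) : False := by
  obtain ⟨h, hh⟩ := E.exists_hf
  have := E.σ.ss.nontrivial
  by_cases hc : ∀ w, Lf N w → Commute z w → Commute y w → Commute a w → Commute b w → w ∈ Subring.center A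
  · exact E.near hh k hP h1 h2 q q' q q' (fun a' b' r => Or.inl ⟨E.enum₁ k q q' hc r, E.enum₁ k q q' hc r.swap⟩)
      (E.far hh k yy q q')
  push Not at hc
  obtain ⟨u, hu, c1, c2, c3, c4, c5⟩ := hc
  have h0 : ∀ {u v}, Lf N u → Lf N v → ad v = ad u → v * v = 1 → Commute z u → Commute y u → Commute a u → Commute b u →
      u ∈ Subring.center A := fun {u v} hu hv e vv d1 d2 d3 d4 => (ad_eq_one_iff hu.1).1 (e ▸ ad_cen (E.big k q hv vv
    (cm_of_ad hu.1 hv.1 e d1) (cm_of_ad hu.1 hv.1 e d2) (cm_of_ad hu.1 hv.1 e d3) (cm_of_ad hu.1 hv.1 e d4)))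
  have hi : NoI A := by
    by_contra hi
    obtain ⟨v, d1, d2, d3⟩ := (E.norm_i hi hu).1
    exact c5 (h0 hu d1 d2 d3 c1 c2 c3 c4)
  obtain ⟨v, hv, d0, d1, d2, d3, d4⟩ := E.partner₂ k.lz k.ly (k.ne_comm hh) q.la q.lb (q.ne_comm hh) q.za q.zb q'.za q'.zb
    c5 c1 c2 c3 c4
  obtain ⟨a₂, b₂, e1, e2⟩ := E.pair hu hv d0
  rcases e1 with r | ⟨k', -⟩
  swap
  · exact k'.ne_comm hh (cen_comm (E.big k q k'.lz k'.zz (e2 _ c1 d1).1 (e2 _ c2 d2).1 (e2 _ c3 d3).1 (e2 _ c4 d4).1) _).symm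
  refine E.near hh k hP h1 h2 q q' (r.of (e2 _ c1 d1).1 (e2 _ c1 d1).2) (r.of (e2 _ c2 d2).1 (e2 _ c2 d2).2)
    (E.enum₂ q q' (r.of (e2 _ c1 d1).1 (e2 _ c1 d1).2) (r.of (e2 _ c2 d2).1 (e2 _ c2 d2).2) (e2 _ c3 d3).1.symm
      (e2 _ c4 d4).1.symm (e2 _ c3 d3).2.symm (e2 _ c4 d4).2.symm (fun w hw f1 f2 f3 f4 f5 f6 => ?_) k hi)
    (E.far hh k yy q q')
  obtain ⟨w', g1, g2, g3⟩ := E.norm hw
  refine g3.elim (fun g3 => h0 hw g1 g2 g3 f1 f2 f3 f4) fun g3 => absurd ?_ (r.swap.ne_comm hh)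
  have g4 := fun {x} => cm_of_ad (x := x) hw.1 g1.1 g2
  exact g1.1.cm (g4 f6) (cen_comm (E.big k q (g1.mul r.la) (by
    rw [(g4 f5).mul_mul_mul_comm, g3, r.aa, neg_mul_neg, one_mul]) ((g4 f1).mul_right (e2 _ c1 d1).1)
    ((g4 f2).mul_right (e2 _ c2 d2).1) ((g4 f3).mul_right (e2 _ c3 d3).1) ((g4 f4).mul_right (e2 _ c4 d4).1)) _)

/-- **the case `r = 2`** -/
theorem two (hI : Irr2 H) (hN : 4 < Nat.card N) : TenD H := by
  obtain ⟨h, hh⟩ := E.exists_hf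
  have := E.σ.ss.nontrivial
  obtain ⟨P, hP, hp, h1⟩ := exists_syl H
  obtain ⟨z, hz, zz, a1, h2⟩ := E.exists_z hN hP hp
  obtain ⟨s, hs, a2⟩ := E.exists_not_comm a1
  obtain ⟨y, k, yy, -⟩ := E.exists_hy hz zz hs a2
  have hQ : ∀ {a b}, Qz N 1 a b → Commute z a → Commute z b → Commute y a → Commute y b → False :=
    fun q c1 c2 c3 c4 => E.caseQ k yy hP h1 h2 (q.of c1 c2) (q.of c3 c4)
  obtain ⟨u, hu, c1, c2, c3⟩ := E.exists_third hN k.lz k.ly (k.ne_comm hh)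
  obtain ⟨v, hv, d0, d1, d2⟩ := E.exists_partner k.lz k.ly (k.ne_comm hh) c3 c1 c2
  obtain ⟨z₁, y₁, e1, e2⟩ := E.pair hu hv d0
  obtain ⟨f1, f2⟩ := e2 z c1 d1
  obtain ⟨f3, f4⟩ := e2 y c2 d2
  obtain ⟨k₁, yy₁⟩ := e1.resolve_left fun q => hQ q f1 f2 f3 f4
  refine E.ten hI (k.qz yy k₁ yy₁ f1 f2 f3 f4) (k₁.qz yy₁ k yy f1.symm f3.symm f2.symm f4.symm)
    ((f1.mul_right f2).mul_left (f3.mul_right f4)).symm ((f1.mul_right f2).symm.mul_right (Commute.refl _))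
    ((f1.mul_left f3).symm.mul_left (Commute.refl _)) ?_ (fun w hw g1 g2 g3 g4 => ?_) fun c i1 i2 i3 => ?_
  · have j1 : ∀ {z y : A}, Hy N z y → z * y * z = -(z * (z * y)) := fun k => by rw [mul_assoc, k.yz, mul_neg]
    rw [Commute, SemiconjBy, mul_assoc, ← mul_assoc (z * y), j1 k, mul_assoc z (z₁ * y₁), ← mul_assoc (z₁ * y₁), j1 k₁,
      neg_mul, neg_mul, mul_neg, mul_neg, neg_inj, ← mul_assoc z₁, ← mul_assoc z₁, ← f1.eq, mul_assoc z (z₁),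
      mul_assoc z, mul_assoc z₁, mul_assoc z₁, ((f1.mul_right f2).mul_left (f3.mul_right f4)).eq]
  · by_contra h0
    have g5 : ∀ {u w x : A}, Un w → Commute x w → Commute x (u * w) → Commute x u := fun hw h1 h2 =>
      hw.cancel' (by rw [mul_assoc, h2.eq, mul_assoc, mul_assoc, h1.eq])
    have g6 := g5 (k₁.lz.mul k₁.ly).1 g3.symm g2.symm
    have g7 := g5 (k.lz.mul k.ly).1 g1.symm g4.symm
    have g8 := k.lz.1.cm g6 g1.symm
    have g9 := k₁.lz.1.cm g7 g3.symm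
    obtain ⟨v, hv, d0, d1, d2, d3, d4⟩ := E.partner₂ k.lz k.ly (k.ne_comm hh) k₁.lz k₁.ly (k₁.ne_comm hh) f1 f2 f3 f4 h0
      g6.symm g8.symm g7.symm g9.symm
    obtain ⟨z₂, y₂, e1, e2⟩ := E.pair hw hv d0
    obtain ⟨l1, l2⟩ := e2 z g6.symm d1
    obtain ⟨l3, l4⟩ := e2 y g8.symm d2
    obtain ⟨k₂, yy₂⟩ := e1.resolve_left fun q => hQ q l1 l2 l3 l4
    exact hQ (k₁.qz yy₁ k₂ yy₂ (e2 _ g7.symm d3).1 (e2 _ g7.symm d3).2 (e2 _ g9.symm d4).1 (e2 _ g9.symm d4).2)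
      (f1.mul_right f2) (f1.mul_right (l1.mul_right l2)) (f3.mul_right f4) (f3.mul_right (l3.mul_right l4))
  · have j : ∀ x, Commute x c := cen_comm i1
    exact hQ (a := c * z₁) (b := c * y₁) ⟨(Lf.cen i1 i2).mul k₁.lz, (Lf.cen i1 i2).mul k₁.ly, by
      rw [cen_mul_mul i1, i3, k₁.zz, mul_one], by rw [cen_mul_mul i1, i3, yy₁, mul_one], by
      rw [cen_mul_mul i1, cen_mul_mul i1, k₁.yz, mul_neg], by rw [mul_one, one_mul], by rw [mul_one, one_mul]⟩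
      ((j z).mul_right f1) ((j z).mul_right f2) ((j y).mul_right f3) ((j y).mul_right f4)

end EC

end Cfsg.Agent.TH.Cl.Ext
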