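import Cfsg.Agent.TH.Cl.Ext.Three
import Cfsg.Agent.TH.Cl.Ext.TwoD
import Cfsg.Agent.SB.C2.Main

/-!
# S3541, box `Ext` (helper58)
-/

set_option autoImplicit false

namespace Cfsg.Agent.TH.Cl

open Cfsg.Agent.DS.Cl Cfsg.Agent.DS.Cl.Fwd Cfsg.Agent.SB.Cl Module

theorem Ext.core {A : Type} [Ring A] [StarRing A] [Finite A] {F : FR A} {G H : Subgroup (RingAut A)} {m p : ℕ}
    (c : Ctx F G H m p) (h : ExD F H) {n : ℕ} (hn : Nat.card A = Nat.card (Subring.center A) ^ n ^ 2) (h3 : 3 ≤ n)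
    (hb : n = 3 → (∃ ε : A, Eps ε) ∨ 4 < Nat.card (Subring.center A)) : TenD H := by
  obtain ⟨hI, N, h1, h2, h4, h5⟩ := h
  obtain ⟨r, hr, he⟩ := DS.Cl.Ext.exists_exp h2.ne h4 h2.nrm h2.min
  have E : Ext.EC F G H N m p r := ⟨c, ⟨c.ss, h1.trans inf_le_right, h2.ne, h4, hr, he, h5⟩, h1.trans inf_le_left, h2⟩
  have h6 : Nat.card N = n ^ 2 := Nat.pow_right_injective E.σ.two_le (E.σ.card_eq.symm.trans hn)
  by_cases h7 : r = 2
  · subst h7
    exact E.two hI (by nlinarith)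
  by_cases h8 : r = 3
  · subst h8
    exact (E.not_three fun h9 => hb (by nlinarith)).elim
  · exact (E.not_five (hr.five_le_of_ne_two_of_ne_three h7 h8)).elim

/-- **box `Ext`** -/
theorem Ext.boxExt (b : BoxTen) : BoxExt := by
  refine ⟨fun K _ _ n F G H m p k c h => b.l K n F G H m p k c ?_,
    fun K V _ _ _ _ _ f F q G H m p k c h => b.u K V f F q G H m p k c ?_,
    fun K V _ _ _ _ _ f F j G H m p k c h => b.sp K V f F j G H m p k c ?_,
    fun K V _ _ _ _ _ f F Q G H m p k c h => b.o K V f F Q G H m p k c ?_⟩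
  · have : Nonempty (Fin n) := ⟨⟨0, by have := k.dim; omega⟩⟩
    obtain ⟨ε, hε, -⟩ := SB.C2.L_eps (SB.C2.prL_bij (n := n) (K := K))
    refine Ext.core c h ?_ k.dim fun _ => Or.inl ⟨ε, hε⟩
    rw [SB.C2.L_card SB.C2.prL_bij, SB.C2.L_card_center SB.C2.prL_bij, SB.C2.card_end, finrank_fin_fun, ← pow_mul,
      ← pow_mul, mul_comm]
  · have : Nontrivial V := nontrivial_of_finrank_pos (R := K) (by have := k.dim; omega)
    refine Ext.core c h (SB.C2.card_EB f) k.dim fun h3 => Or.inr ?_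
    have h1 := Fintype.one_lt_card (α := K)
    have h2 : q ≠ 2 := fun e => k.ne ⟨h3, e⟩
    rw [SB.C2.card_center (SB.C2.ebE f), Nat.card_eq_fintype_card]
    rw [k.card] at h1 ⊢
    obtain _ | _ | _ | q := q
    · omega
    · omega
    · omega
    · exact lt_of_lt_of_le (by norm_num) (Nat.pow_le_pow_left (show 3 ≤ q + 1 + 1 + 1 by omega) 2)
  · have h1 := k.dim
    have h2 := k.two
    have : Nontrivial V := nontrivial_of_finrank_pos (R := K) (by omega)
    exact Ext.core c h (SB.C2.card_EB f) (by omega) (by omega)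
  · have h1 := k.dim
    have : Nontrivial V := nontrivial_of_finrank_pos (R := K) (by omega)
    exact Ext.core c h (SB.C2.card_EB f) (by omega) (by omega)

theorem boxExt (h : BoxTen) : BoxExt := Ext.boxExt h

end Cfsg.Agent.TH.Cl
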