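import Cfsg.Agent.TH.Cl.Ext.Frame

/-!
# S3541, box `Ext`: normalised lifts, splitting, odd `r` except `3²` (helper58)
-/

set_option autoImplicit false
set_option linter.unusedSectionVars false

namespace Cfsg.Agent.TH.Cl.Ext

open Cfsg.Agent.DS.Cl Cfsg.Agent.DS.Cl.Fwd Cfsg.Agent.SB.Cl

variable {A : Type} [Ring A] [StarRing A] [Finite A]

/-- `a` on the block `f`, the identity on its complement -/
def hm (a f : A) : A := 1 + (a - 1) * f

section hm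

variable {a b f g u : A}

theorem hm_one (f : A) : hm 1 f = 1 := by simp [hm]

theorem hm_mul (hf : f * f = f) (h : b * f = f * b) : hm a f * hm b f = hm (a * b) f := by
  have e : hm a f * hm b f = 1 + (a - 1) * f + (b - 1) * f + (a - 1) * ((f * b) * f - f * f) := by
    simp only [hm]; noncomm_ring
  rw [e, ← h, mul_assoc b, hf, hm]
  noncomm_ring

theorem star_hm (hf : star f = f) (h : a * f = f * a) : star (hm a f) = hm (star a) f := by
  have h1 := congrArg star h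
  rw [star_mul, star_mul, hf] at h1
  rw [hm, hm, star_add, star_one, star_mul, hf, star_sub, star_one, mul_sub, h1, sub_mul, mul_one, one_mul]

theorem star_comm_of (hf : star f = f) (h : a * f = f * a) : star a * f = f * star a := by
  have h1 := congrArg star h
  rw [star_mul, star_mul, hf] at h1
  exact h1.symm

theorem un_hm (hf : f * f = f) (hs : star f = f) (h : a * f = f * a) (ha : Un a) : Un (hm a f) := by
  rw [Un, star_hm hs h, hm_mul hf (star_comm_of hs h), ha.ms, hm_one]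

theorem hm_pow (hf : f * f = f) (h : a * f = f * a) (k : ℕ) : hm a f ^ k = hm (a ^ k) f := by
  induction k with
  | zero => rw [pow_zero, pow_zero, hm_one]
  | succ k ih => rw [pow_succ, ih, hm_mul hf h, pow_succ]

theorem hm_mul_self (hf : f * f = f) : hm a f * f = a * f := by
  rw [hm, add_mul, mul_assoc, hf]; noncomm_ring

theorem self_mul_hm (hf : f * f = f) (h : a * f = f * a) : f * hm a f = a * f := by
  rw [hm, mul_add, ← mul_assoc, mul_sub, ← h, sub_mul, mul_assoc, mul_one, hf]; noncomm_ring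

theorem hm_mul_orth (h : f * g = 0) : hm a f * g = g := by rw [hm, add_mul, mul_assoc, h, mul_zero, add_zero, one_mul]

theorem orth_mul_hm (h : g * f = 0) (h' : a * f = f * a) : g * hm a f = g := by
  rw [hm, mul_add, sub_mul, h', mul_sub, ← mul_assoc, one_mul, h]; simp

theorem semi_hm (h1 : u * f = g * u) (h2 : u * a = b * u) : u * hm a f = hm b g * u := by
  rw [hm, hm, mul_add, add_mul, ← mul_assoc, mul_sub, h2, mul_assoc _ g, ← h1]; noncomm_ring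

end hm

/-- commutation up to the central factor `κ` -/
def Cm (κ a b : A) : Prop := κ ∈ Subring.center A ∧ a * b = κ * (b * a)

theorem Cm.mul {κ κ' a b b' : A} (h : Cm κ a b) (h' : Cm κ' a b') : Cm (κ * κ') a (b * b') :=
  ⟨Subring.mul_mem _ h.1 h'.1, by
    rw [← mul_assoc, h.2, mul_assoc, mul_assoc, h'.2, ← mul_assoc b, cen_comm h'.1]; simp only [mul_assoc]⟩

theorem Cm.of_eq {a b : A} (h : a * b = b * a) : Cm 1 a b := ⟨Subring.one_mem _, by rw [one_mul, h]⟩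

theorem Cm.pow {κ a b : A} (h : Cm κ a b) (k : ℕ) : Cm (κ ^ k) a (b ^ k) := by
  induction k with
  | zero => rw [pow_zero, pow_zero]; exact Cm.of_eq (by simp)
  | succ k ih => rw [pow_succ, pow_succ]; exact ih.mul h

theorem Cm.symm {κ a b : A} (h : Cm κ a b) (hκ : Un κ) : Cm (star κ) b a :=
  ⟨star_cen h.1, by rw [h.2, ← mul_assoc, hκ.sm, one_mul]⟩

theorem Cm.eq {κ a b : A} (h : Cm κ a b) (h1 : κ = 1) : a * b = b * a := by rw [h.2, h1, one_mul]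

theorem star_root {ζ : A} {r : ℕ} (h3 : ζ ^ r = 1) (h4 : ζ ≠ 1) : star ζ ^ r = 1 ∧ star ζ ≠ 1 :=
  ⟨by rw [← star_pow, h3, star_one], fun h => h4 (by rw [← star_star ζ, h, star_one])⟩

namespace EC

variable {F : FR A} {G H N : Subgroup (RingAut A)} {m p r : ℕ} (E : EC F G H N m p r)
include E

open DS.Cl.Ext in
theorem root : (∀ u, Lf N u → ∃ c ∈ Subring.center A, Un c ∧ (c * u) ^ r = 1) ∨
    (r = 2 ∧ ¬ 4 ∣ Nat.card (Uh F N)) := by
  refine or_iff_not_imp_right.2 fun hQ => ?_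
  have : Finite (Nh F N) := Finite.of_injective (fun u : Nh F N => ((u : Aˣ) : A))
    (Units.val_injective.comp Subtype.val_injective)
  obtain ⟨f, hf⟩ := exists_res E.c.H_le_Aut E.min.nrm
  have hcj : ∀ (γ : RingAut A) (u v : Nh F N), γ (u : Aˣ) = (v : Aˣ) → γ * DS.Cl.cj A u * γ⁻¹ = DS.Cl.cj A v := by
    intro γ u v huv
    rw [DS.Cl.Ext.conj_cj]
    exact congrArg (DS.Cl.cj A) (Units.ext huv)
  obtain ⟨K, hK, hKU⟩ := E.σ.sty.exists_powSub hQ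
  rcases E.min.min (K.map ((DS.Cl.cj A).comp (Nh F N).subtype)) (by rintro _ ⟨u, -, rfl⟩; exact u.2.1) (by
    rintro γ hγ _ ⟨u, hu, rfl⟩
    refine ⟨f ⟨γ, hγ⟩ u, ?_, (hcj γ u _ (hf ⟨γ, hγ⟩ u).symm).symm⟩
    obtain ⟨c, hc, e⟩ := (hK u).1 hu
    refine (hK _).2 ⟨f ⟨γ, hγ⟩ c, ?_, by rw [← map_pow, e, map_pow]⟩
    rw [mem_Uh, hf]
    exact map_cen γ hc) with h1 | h1
  · refine absurd (fun u hu => ?_) hKU
    have h2 : DS.Cl.cj A u ∈ K.map ((DS.Cl.cj A).comp (Nh F N).subtype) := ⟨u, hu, rfl⟩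
    rw [h1, Subgroup.mem_bot] at h2
    exact DS.Cl.Ext.cj_eq_one_iff.1 h2
  · intro x hx
    have h2 := hx.2
    rw [← h1] at h2
    obtain ⟨k, hk, hkx⟩ := h2
    obtain ⟨c, hc, e⟩ := (hK k).1 hk
    obtain ⟨d, d1, d2, d3⟩ := (ad_eq_iff (a := ((k : Aˣ) : A)) (mul_star k) hx.1).1 ((ad_val _).trans hkx)
    have h3 : ((k : Aˣ) : A) ^ r = ((c : Aˣ) : A) ^ r := congrArg (fun z : Nh F N => ((z : Aˣ) : A)) e
    have h4 : Un ((c : Aˣ) : A) := mul_star c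
    refine ⟨star ((c : Aˣ) : A) * d, Subring.mul_mem _ (star_cen hc) d1, h4.st.mul d2, ?_⟩
    rw [mul_assoc, ← d3, Commute.mul_pow (cen_comm (star_cen hc) _).symm, h3, ← star_pow, (h4.pow r).sm]

theorem exists_cm {u v : A} (hu : Lf N u) (hv : Lf N v) : ∃ κ, Un κ ∧ κ ^ r = 1 ∧ Cm κ u v := by
  obtain ⟨κ, h1, h2, h3, h4⟩ := E.σ.exists_kap hu hv
  exact ⟨κ, h2, h3, h1, h4⟩

theorem exists_not_comm {u : A} (hu : u ∉ Subring.center A) : ∃ v, Lf N v ∧ v * u ≠ u * v := by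
  by_contra h
  push Not at h
  exact hu (E.σ.cen_of h)

theorem exists_not_cen : ∃ u, Lf N u ∧ u ∉ Subring.center A := by
  obtain ⟨x, hx, h1⟩ := (N.bot_or_exists_ne_one).resolve_left E.σ.ne
  obtain ⟨u, hu, rfl⟩ := E.σ.exists_lf hx
  exact ⟨u, hu, fun h => h1 (ad_cen h)⟩

/-- **splitting off a non-commuting pair** -/
theorem split {u v w : A} (hu : Lf N u) (hv : Lf N v) (h : u * v ≠ v * u) (hw : Lf N w) :
    ∃ i < r, ∃ j < r, u * (u ^ i * v ^ j * w) = u ^ i * v ^ j * w * u ∧ v * (u ^ i * v ^ j * w) = u ^ i * v ^ j * w * v := by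
  obtain ⟨ρ, hρ, hρ'⟩ := E.exists_rho
  obtain ⟨ζ, a1, a2, a3⟩ := E.exists_cm hu hv
  have a4 : ζ ≠ 1 := fun h1 => h (a3.eq h1)
  obtain ⟨κ, b1, b2, b3⟩ := E.exists_cm hu hw
  obtain ⟨κ', c1, c2, c3⟩ := E.exists_cm hv hw
  obtain ⟨j, hj, e1⟩ := E.σ.exists_pow hρ hρ' a3.1 a1 a2 a4 b3.1 b1 b2
  obtain ⟨i, hi, e2⟩ := E.σ.exists_pow hρ hρ' (star_cen a3.1) a1.st (star_root a2 a4).1 (star_root a2 a4).2 c3.1 c1 c2
  exact ⟨i, hi, j, hj, ((((Cm.of_eq rfl).pow i).mul (a3.pow j)).mul b3).eq (by rw [one_pow, one_mul, e1]),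
    ((((a3.symm a1).pow i).mul ((Cm.of_eq rfl).pow j)).mul c3).eq (by rw [one_pow, mul_one, e2])⟩

theorem card_le {u v : A} (hu : Lf N u) (hv : Lf N v) (h : u * v ≠ v * u)
    (hc : ∀ w, Lf N w → u * w = w * u → v * w = w * v → w ∈ Subring.center A) : Nat.card N ≤ r ^ 2 := by
  rw [pow_two, ← Nat.card_fin r, ← Nat.card_prod]
  refine Nat.card_le_card_of_surjective (fun q : Fin r × Fin r =>
    (⟨_, N.inv_mem ((hu.pow q.1).mul (hv.pow q.2)).2⟩ : N)) fun ν => ?_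
  obtain ⟨w, hw, e⟩ := E.σ.exists_lf ν.2
  obtain ⟨i, hi, j, hj, h1, h2⟩ := E.split hu hv h hw
  have h3 := ad_cen (hc _ (((hu.pow i).mul (hv.pow j)).mul hw) h1 h2)
  rw [ad_mul ((hu.pow i).mul (hv.pow j)).1 hw.1, e] at h3
  exact ⟨(⟨i, hi⟩, ⟨j, hj⟩), Subtype.ext (inv_eq_of_mul_eq_one_right h3)⟩

/-- a partner commuting with a given pair -/
theorem exists_partner {u v z : A} (hu : Lf N u) (hv : Lf N v) (h : u * v ≠ v * u)
    (h0 : z ∉ Subring.center A) (h1 : u * z = z * u) (h2 : v * z = z * v) :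
    ∃ s, Lf N s ∧ s * z ≠ z * s ∧ u * s = s * u ∧ v * s = s * v := by
  obtain ⟨w, hw, h3⟩ := E.exists_not_comm h0
  obtain ⟨i, -, j, -, h4, h5⟩ := E.split hu hv h hw
  refine ⟨_, ((hu.pow i).mul (hv.pow j)).mul hw, fun h6 => h3 (((hu.pow i).mul (hv.pow j)).1.cancel ?_), h4, h5⟩
  have h7 : Commute (u ^ i * v ^ j) z := ((show Commute u z from h1).pow_left i).mul_left
    ((show Commute v z from h2).pow_left j)
  rw [← mul_assoc, h6, ← mul_assoc, ← h7.eq, mul_assoc]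

theorem diag {ι : Type} [Fintype ι] {e : ι → A} (h : Fm e) {ζ : A} (h1 : ζ ∈ Subring.center A) (h2 : Un ζ)
    (h3 : ζ ^ r = 1) (h4 : ζ ≠ star ζ) {i j : ι} (hij : i ≠ j) :
    ((Fintype.card ι - 2) ^ 2 + 2) * r ^ 2 ≤ (2 * r - 1) * Fintype.card ι ^ 2 := by
  classical
  obtain ⟨s, hs, hs'⟩ := h.conj i j
  have c1 : ∀ x, ζ * x = x * ζ := fun x => (cen_comm h1 x).symm
  have c2 : ∀ x, star ζ * x = x * star ζ := fun x => (cen_comm (star_cen h1) x).symm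
  have u1 := un_hm (h.idem i) (h.symm i) (c1 _) h2
  have u2 := un_hm (h.idem j) (h.symm j) (c2 _) h2.st
  have h5 := E.σ.comm_mem u1 hs
  rw [star_hm (h.symm i) (c1 _), mul_assoc _ s, semi_hm hs' (c2 s).symm, mul_assoc, mul_assoc, hs.ms, mul_one] at h5
  have h6 : Commute (hm ζ (e i)) (hm (star ζ) (e j)) :=
    semi_hm (by rw [hm_mul_orth (h.orth _ _ hij), orth_mul_hm (h.orth _ _ hij.symm) (c1 _)]) (c2 _).symm
  have k1 : hm ζ (e i) * hm (star ζ) (e j) * e i = ζ * e i := by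
    rw [mul_assoc, hm_mul_orth (h.orth _ _ hij.symm), hm_mul_self (h.idem i)]
  have k2 : hm ζ (e i) * hm (star ζ) (e j) * e j = star ζ * e j := by
    rw [h6.eq, mul_assoc, hm_mul_orth (h.orth _ _ hij), hm_mul_self (h.idem j)]
  have h7 := E.bound_r h (u1.mul u2) h5 (by
      rw [h6.mul_pow, hm_pow (h.idem i) (c1 _), hm_pow (h.idem j) (c2 _), ← star_pow, h3, star_one, hm_one, hm_one,
        mul_one]) (fun h8 => h4 ?_)
    (((Finset.univ \ {i, j}) ×ˢ (Finset.univ \ {i, j})) ∪ {(i, i), (j, j)}) (fun q hq => ?_) i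
  · rwa [Finset.card_union_of_disjoint (by simp), Finset.card_product, Finset.card_univ_sdiff, Finset.card_pair hij,
      Finset.card_pair (by simp [hij]), ← pow_two] at h7
  · rw [← sub_eq_zero, ← sub_mul] at k1 k2
    have k3 := h.eq_zero (Subring.sub_mem _ h8 h1) k1
    have k4 := h.eq_zero (Subring.sub_mem _ h8 (star_cen h1)) k2
    rw [sub_eq_zero] at k3 k4
    exact k3.symm.trans k4
  · simp only [Finset.mem_union, Finset.mem_product, Finset.mem_sdiff, Finset.mem_univ, true_and, Finset.mem_insert,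
      Finset.mem_singleton, not_or] at hq
    rcases hq with ⟨⟨a1, a2⟩, a3, a4⟩ | rfl | rfl
    · refine ⟨1, Subring.one_mem _, ?_, ?_⟩
      · rw [mul_assoc, hm_mul_orth (h.orth _ _ (Ne.symm a2)), hm_mul_orth (h.orth _ _ (Ne.symm a1)), one_mul]
      · rw [← mul_assoc, orth_mul_hm (h.orth _ _ a3) (c1 _), orth_mul_hm (h.orth _ _ a4) (c2 _), one_mul]
    · refine ⟨ζ, h1, k1, ?_⟩
      rw [h6.eq, ← mul_assoc, orth_mul_hm (h.orth _ _ hij) (c2 _), self_mul_hm (h.idem _) (c1 _)]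
    · refine ⟨star ζ, star_cen h1, k2, ?_⟩
      rw [← mul_assoc, orth_mul_hm (h.orth _ _ hij.symm) (c1 _), self_mul_hm (h.idem _) (c2 _)]

theorem ne_star (hr : r ≠ 2) {ζ : A} (h2 : Un ζ) (h3 : ζ ^ r = 1) (h4 : ζ ≠ 1) : ζ ≠ star ζ := fun h => by
  have h5 := E.σ.prime.two_le
  have h6 := E.σ.pow_ne h3 h4 (i := 2) (j := 0) (by omega) (by omega) (by
    rw [pow_two, pow_zero]; nth_rewrite 2 [h]; exact h2)
  omega

/-- a non-commuting pair of lifts of order `r` -/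
theorem norm_pair (hr : r ≠ 2) {z s : A} (hz : Lf N z) (hs : Lf N s) (h : s * z ≠ z * s) :
    ∃ z' s', Lf N z' ∧ Lf N s' ∧ z' ^ r = 1 ∧ s' ^ r = 1 ∧ s' * z' ≠ z' * s' ∧
      ∀ x, (x * z = z * x → x * z' = z' * x) ∧ (x * s = s * x → x * s' = s' * x) := by
  have h1 := E.root.resolve_right fun h => hr h.1
  obtain ⟨c, c1, c2, c3⟩ := h1 z hz
  obtain ⟨d, d1, d2, d3⟩ := h1 s hs
  have h2 : ∀ {c : A}, c ∈ Subring.center A → ∀ {x y : A}, x * y = y * x → x * (c * y) = c * y * x :=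
    fun {c} hc {x y} h => by rw [← mul_assoc, cen_comm hc, mul_assoc, h, mul_assoc]
  refine ⟨_, _, (Lf.cen c1 c2).mul hz, (Lf.cen d1 d2).mul hs, c3, d3, fun h3 => h ((d2.mul c2).cancel ?_),
    fun x => ⟨h2 c1, h2 d1⟩⟩
  rw [← cen_mul_mul c1, h3, cen_mul_mul d1, cen_comm d1]

theorem not_five (hr : 5 ≤ r) : False := by
  obtain ⟨z₀, a1, a2⟩ := E.exists_not_cen
  obtain ⟨s₀, a3, a4⟩ := E.exists_not_comm a2
  obtain ⟨z, s, hz, hs, h1, -, h2, -⟩ := E.norm_pair (by omega) a1 a3 a4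
  obtain ⟨ρ, hρ, hρ'⟩ := E.exists_rho
  obtain ⟨ζ, b1, b2, b3⟩ := E.exists_cm hs hz
  have b4 : ζ ≠ 1 := fun h => h2 (b3.eq h)
  have h3 := E.diag (E.σ.fm hρ hρ' b3.1 b1 b2 b4 hz.1 h1 hs.1 b3.2).1 b3.1 b1 b2 (E.ne_star (by omega) b1 b2 b4)
    (i := ⟨0, by omega⟩) (j := ⟨1, by omega⟩) (by simp)
  rw [Fintype.card_fin] at h3
  have h4 := Nat.le_of_mul_le_mul_right h3 (by positivity)
  obtain ⟨k, rfl⟩ : ∃ k, r = k + 5 := ⟨r - 5, by omega⟩
  rw [show k + 5 - 2 = k + 3 by omega, show 2 * (k + 5) - 1 = 2 * k + 9 by omega] at h4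
  nlinarith

/-- the frame of two commuting pairs -/
theorem fm_two {ρ ζ ζ' z s z' s' : A} (hρ : ρ ∈ Subring.center A) (hρ' : ρ * r = 1) (a1 : Un ζ) (a2 : ζ ^ r = 1)
    (a3 : ζ ≠ 1) (a4 : Cm ζ s z) (b1 : Un ζ') (b2 : ζ' ^ r = 1) (b3 : ζ' ≠ 1) (b4 : Cm ζ' s' z') (hz : Un z)
    (hz' : Un z') (hs : Un s) (hs' : Un s') (h1 : z ^ r = 1) (h2 : z' ^ r = 1) (h3 : z * z' = z' * z)
    (h4 : s * z' = z' * s) (h5 : s' * z = z * s') :
    Fm fun q : Fin r × Fin r => pr ρ r (ζ ^ (q.1 : ℕ) * z) * pr ρ r (ζ' ^ (q.2 : ℕ) * z') := by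
  obtain ⟨f1, f2⟩ := E.σ.fm hρ hρ' a4.1 a1 a2 a3 hz h1 hs a4.2
  obtain ⟨g1, g2⟩ := E.σ.fm hρ hρ' b4.1 b1 b2 b3 hz' h2 hs' b4.2
  have k : ∀ {c : A}, c ∈ Subring.center A → ∀ (i : ℕ) {x y : A}, x * y = y * x →
      x * pr ρ r (c ^ i * y) = pr ρ r (c ^ i * y) * x := fun {c} hc i {x y} h => comm_pr hρ (by
    rw [← mul_assoc, cen_comm (Subring.pow_mem _ hc i), mul_assoc, h, mul_assoc])
  refine f1.prod g1 (fun i j => k b4.1 j (k a4.1 i h3.symm).symm) (fun i i' => ?_) fun j j' => ?_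
  · obtain ⟨n, hn⟩ := f2 i i'
    exact ⟨_, hs.pow n, hn, fun j => k b4.1 j ((show Commute s z' from h4).pow_left n)⟩
  · obtain ⟨n, hn⟩ := g2 j j'
    exact ⟨_, hs'.pow n, hn, fun i => k a4.1 i ((show Commute s' z from h5).pow_left n)⟩

end EC

/-- for `r = 3` only `3²` is left -/
theorem EC.three {F : FR A} {G H N : Subgroup (RingAut A)} {m p : ℕ} (E : EC F G H N m p 3) {z₀ s₀ : A} (hz₀ : Lf N z₀)
    (hs₀ : Lf N s₀) (h₀ : s₀ * z₀ ≠ z₀ * s₀) {w : A} (hw : Lf N w) (h₃ : z₀ * w = w * z₀) (h₄ : s₀ * w = w * s₀) :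
    w ∈ Subring.center A := by
  obtain ⟨z, s, hz, hs, h1, -, h2, h₅⟩ := E.norm_pair (by omega) hz₀ hs₀ h₀
  have h3 := ((h₅ w).1 h₃.symm).symm
  have h4 := ((h₅ w).2 h₄.symm).symm
  by_contra h0
  obtain ⟨t, a1, a2, a3, a4⟩ := E.exists_partner hz hs h2.symm h0 h3 h4
  obtain ⟨z', s', hz', hs', b1, -, b2, b3⟩ := E.norm_pair (by omega) hw a1 a2
  obtain ⟨ρ, hρ, hρ'⟩ := E.exists_rho
  obtain ⟨ζ, c1, c2, c3⟩ := E.exists_cm hs hz
  obtain ⟨ζ', d1, d2, d3⟩ := E.exists_cm hs' hz'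
  have c4 : ζ ≠ 1 := fun h => h2 (c3.eq h)
  have h5 := E.diag (E.fm_two hρ hρ' c1 c2 c4 c3 d1 d2 (fun h => b2 (d3.eq h)) d3 hz.1 hz'.1 hs.1 hs'.1 h1 b1
    ((b3 z).1 h3) ((b3 s).1 h4) ((b3 z).2 a3).symm) c3.1 c1 c2 (E.ne_star (by omega) c1 c2 c4)
    (i := (0, 0)) (j := (0, 1)) (by simp)
  simp at h5

end Cfsg.Agent.TH.Cl.Ext
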