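import Cfsg.Agent.TH.Cl.Ext.Inv3

/-!
# S3541, box `Ext`, `N = 3²`: the matrix model and the end (helper58)
-/

set_option autoImplicit false
set_option linter.unusedSectionVars false

namespace Cfsg.Agent.TH.Cl.Ext

open Cfsg.Agent.DS.Cl Cfsg.Agent.DS.Cl.Fwd Cfsg.Agent.SB.Cl Matrix

/-- the centre as a ring with involution -/
def Cn (A : Type) [Ring A] : Type := Subring.center A

variable {A : Type} [Ring A] [StarRing A]

instance Cn.instCommRingExt : CommRing (Cn A) := inferInstanceAs (CommRing (Subring.center A))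

instance Cn.instStarRingExt : StarRing (Cn A) where
  star c := ⟨star c.1, star_cen c.2⟩
  star_involutive c := Subtype.ext (star_star c.1)
  star_mul c d := Subtype.ext (star_mul c.1 d.1)
  star_add c d := Subtype.ext (star_add c.1 d.1)

/-- the inclusion -/
def Cn.val : Cn A →+* A := (Subring.center A).subtype

/-- a central element -/
def Cn.mk (c : A) (h : c ∈ Subring.center A) : Cn A := ⟨c, h⟩

omit [StarRing A] in
theorem Cn.val_mk (c : A) (h : c ∈ Subring.center A) : Cn.val (Cn.mk c h) = c := rfl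

omit [StarRing A] in
theorem Cn.val_mem (c : Cn A) : Cn.val c ∈ Subring.center A := c.2

omit [StarRing A] in
theorem Cn.inj : Function.Injective (Cn.val (A := A)) := Subtype.val_injective

theorem Cn.val_star (c : Cn A) : Cn.val (star c) = star (Cn.val c) := rfl

/-- three by three matrices over the centre -/
abbrev M3 (A : Type) [Ring A] : Type := Matrix (Fin 3) (Fin 3) (Cn A)

theorem exists_hom (U : Fin 3 → Fin 3 → A) (h1 : ∀ i j k l, U i j * U k l = if j = k then U i l else 0)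
    (h2 : ∑ i, U i i = 1) : ∃ Ψ : M3 A →+* A, ∀ M, Ψ M = ∑ i, ∑ j, Cn.val (M i j) * U i j := by
  refine ⟨{ toFun := fun M => ∑ i, ∑ j, Cn.val (M i j) * U i j, map_one' := ?_, map_mul' := fun M M' => ?_,
            map_zero' := by simp, map_add' := fun M M' => by simp [add_mul, Finset.sum_add_distrib] }, fun _ => rfl⟩
  · rw [← h2]
    refine Finset.sum_congr rfl fun i _ => ?_
    rw [Finset.sum_eq_single i (fun j _ hj => by rw [one_apply_ne hj.symm, map_zero, zero_mul]) (by simp), one_apply_eq,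
      map_one, one_mul]
  · rw [Finset.sum_mul]
    refine Finset.sum_congr rfl fun i _ => ?_
    simp only [mul_apply, map_sum, map_mul, Finset.sum_mul]
    rw [Finset.sum_comm]
    refine Finset.sum_congr rfl fun j _ => ?_
    symm
    rw [Finset.mul_sum, Finset.sum_eq_single j (fun k _ hk => ?_) (by simp), Finset.mul_sum]
    · exact Finset.sum_congr rfl fun l _ => by rw [cen_mul_mul (Cn.val_mem _), h1, if_pos rfl]
    · rw [Finset.mul_sum]
      exact Finset.sum_eq_zero fun l _ => by rw [cen_mul_mul (Cn.val_mem _), h1, if_neg hk.symm, mul_zero]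

/-- the shift -/
def shM (R : Type) [CommRing R] : Matrix (Fin 3) (Fin 3) R := !![0, 0, 1; 1, 0, 0; 0, 1, 0]

/-- the transposition -/
def swM (R : Type) [CommRing R] : Matrix (Fin 3) (Fin 3) R := !![1, 0, 0; 0, 0, 1; 0, 1, 0]

/-- diagonal matrices -/
def dgM {R : Type} [CommRing R] (a b c : R) : Matrix (Fin 3) (Fin 3) R := !![a, 0, 0; 0, b, 0; 0, 0, c]

/-- block matrices -/
def blM {R : Type} [CommRing R] (a x y u w : R) : Matrix (Fin 3) (Fin 3) R := !![a, 0, 0; 0, x, y; 0, u, w]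

/-- monomial matrices of the reflection `i ↦ k - i` with cube roots of unity -/
def Mono {R : Type} [CommRing R] (T : Matrix (Fin 3) (Fin 3) R) : Prop :=
  ∃ (k : Fin 3) (μ : Fin 3 → R), (∀ i, μ i ^ 3 = 1) ∧ ∀ i j, T i j = if j = k - i then μ i else 0

/-- no reflections of the rows and columns preserve the cubes of the entries -/
def Bad {R : Type} [CommRing R] (M : Matrix (Fin 3) (Fin 3) R) : Prop :=
  ∀ (k l : Fin 3) (Λ : R), IsUnit Λ → ¬ ∀ i j, M i j ^ 3 = Λ * M (k - i) (l - j) ^ 3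

section mat

variable {R : Type} [CommRing R]

theorem star3 [StarRing R] (a b c d e f g h i : R) : star !![a, b, c; d, e, f; g, h, i] =
    !![star a, star d, star g; star b, star e, star h; star c, star f, star i] := by
  ext i j; fin_cases i <;> fin_cases j <;> rfl

omit [CommRing R] in
theorem eq3 {a b c d e f g h i a' b' c' d' e' f' g' h' i' : R} (h1 : a = a') (h2 : b = b') (h3 : c = c') (h4 : d = d')
    (h5 : e = e') (h6 : f = f') (h7 : g = g') (h8 : h = h') (h9 : i = i') :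
    !![a, b, c; d, e, f; g, h, i] = !![a', b', c'; d', e', f'; g', h', i'] := by
  rw [h1, h2, h3, h4, h5, h6, h7, h8, h9]

theorem mono_sw : Mono (swM R) := ⟨0, fun _ => 1, fun _ => one_pow 3, fun i j => by
  fin_cases i <;> fin_cases j <;> simp [swM] <;> intro h <;> exact absurd h (by decide)⟩

theorem Mono.sh {T : Matrix (Fin 3) (Fin 3) R} (h : Mono T) : Mono (shM R * T) := by
  obtain ⟨k, μ, h1, h2⟩ := h
  refine ⟨k + 1, fun i => μ (i - 1), fun i => h1 _, fun i j => ?_⟩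
  have h3 : (shM R * T) i j = T (i - 1) j := by
    fin_cases i <;> simp [shM, mul_apply, Fin.sum_univ_three]
    rfl
  rw [h3, h2, show k - (i - 1) = k + 1 - i by abel]

theorem Mono.dg {T : Matrix (Fin 3) (Fin 3) R} (h : Mono T) {η : R} (hη : η ^ 3 = 1) : Mono (dgM 1 η (η ^ 2) * T) := by
  obtain ⟨k, μ, h1, h2⟩ := h
  refine ⟨k, fun i => η ^ (i : ℕ) * μ i, fun i => by rw [mul_pow, h1, ← pow_mul, mul_comm _ 3, pow_mul, hη]; simp,
    fun i j => ?_⟩
  have h3 : (dgM 1 η (η ^ 2) * T) i j = η ^ (i : ℕ) * T i j := by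
    fin_cases i <;> simp [dgM, mul_apply, Fin.sum_univ_three]
  rw [h3, h2, mul_ite, mul_zero]

theorem mono_pow {η : R} (hη : η ^ 3 = 1) (i j : ℕ) : Mono (dgM 1 η (η ^ 2) ^ i * shM R ^ j * swM R) := by
  induction i with
  | zero =>
    rw [pow_zero, one_mul]
    induction j with
    | zero => rw [pow_zero, one_mul]; exact mono_sw
    | succ j ih => rw [pow_succ', mul_assoc]; exact ih.sh
  | succ i ih => rw [pow_succ' (dgM 1 η (η ^ 2)), mul_assoc, mul_assoc, ← mul_assoc (_ ^ i)]; exact ih.dg hη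

theorem not_bad {M T T' : Matrix (Fin 3) (Fin 3) R} (h : Mono T) (h' : Mono T') {c : R} (hc : IsUnit c)
    (e : M * T = scalar _ c * (T' * M)) : ¬ Bad M := by
  obtain ⟨l, μ, h1, h2⟩ := h
  obtain ⟨k, μ', h3, h4⟩ := h'
  refine fun hb => hb k l (c ^ 3) (hc.pow 3) fun i j => ?_
  have h5 := congrFun (congrFun e i) (l - j)
  rw [scalar_apply, diagonal_mul, mul_apply, mul_apply, Finset.sum_eq_single j (fun x _ hx => by
    rw [h2, if_neg (by simpa using hx.symm), mul_zero]) (by simp), Finset.sum_eq_single (k - i) (fun x _ hx => by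
    rw [h4, if_neg hx, zero_mul]) (by simp), h2, h4, if_pos rfl, if_pos rfl] at h5
  have h6 := congrArg (· ^ 3) h5
  simpa only [mul_pow, h1, h3, mul_one, one_mul] using h6

variable [Nontrivial R]

theorem bad_dg {b c : R} (hb : b * c = 1) (h : b ^ 3 ≠ c ^ 3) : Bad (dgM 1 b c) := by
  intro k l Λ hΛ H
  have h1 : b ^ 3 * c ^ 3 = 1 := by rw [← mul_pow, hb, one_pow]
  have h2 : b ^ 3 ≠ 0 := left_ne_zero_of_mul_eq_one h1
  have h3 : c ^ 3 ≠ 0 := right_ne_zero_of_mul_eq_one h1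
  have a := H 0 0
  have a1 := H 1 1
  have a2 := H 2 2
  fin_cases k <;> fin_cases l <;> simp [dgM] at a a1 a2
  · exact h (by rw [a1, ← a, one_mul])
  · exact h (by linear_combination h1 - (b ^ 3 + 1) * (a2 - c ^ 3 * a1 + h1))
  · exact h (by linear_combination (c ^ 3 + 1) * (a1 - b ^ 3 * a2 + h1) - h1)

theorem bad_tr {y y' : R} (h : y * y' = 0) (h1 : y ^ 6 ≠ 0) (h2 : y' ^ 3 ≠ 0) : Bad (blM 1 1 y (-y') 1) := by
  intro k l Λ hΛ H
  have h3 : y ^ 3 ≠ 0 := fun h3 => h1 (by linear_combination y ^ 3 * h3)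
  have a := H 0 0
  have a1 := H 1 2
  fin_cases k <;> fin_cases l <;> simp [blM] at a a1
  · exact h1 (by linear_combination y ^ 3 * a1 - Λ * (y * y') ^ 2 * h)
  · exact h3 a1
  · exact h2 (by linear_combination y' ^ 3 * a + Λ * (y * y') ^ 2 * h)
  · exact h3 (by linear_combination y ^ 3 * a - Λ * (y * y') ^ 2 * h)
  · exact h3 a1

theorem bad_odd {x y : R} (hx : IsUnit x) (hy : IsUnit y) (h2 : (2 : R) * x ^ 3 ≠ 0) : Bad (blM (-1) x y (-y) (-x)) := by
  intro k l Λ hΛ H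
  have h3 : x ^ 3 ≠ 0 := (hx.pow 3).ne_zero
  have h4 : y ^ 3 ≠ 0 := (hy.pow 3).ne_zero
  have h5 : ∀ z : R, (-z) ^ 3 = -z ^ 3 := fun z => by ring
  have a := H 0 0
  have a1 := H 1 1
  have a2 := H 1 2
  have a3 := H 2 1
  have a4 := H 2 2
  fin_cases k <;> fin_cases l <;> simp [blM, h3, h4, h5] at a a1 a2 a3 a4
  exact h2 (by linear_combination a1 + x ^ 3 * a)

end mat

variable [Finite A]

/-- the matrix model -/
structure Mod (N : Subgroup (RingAut A)) (Ψ : M3 A →+* A) (η : Cn A) : Prop where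
  inj : Function.Injective Ψ
  st : ∀ M, Ψ (star M) = star (Ψ M)
  sc : ∀ c, Ψ (scalar _ c) = Cn.val c
  eta : η ^ 2 + η + 1 = 0
  eta' : star η = η ^ 2
  lz : Lf N (Ψ (dgM 1 η (η ^ 2)))
  ls : Lf N (Ψ (shM _))
  gen : ∀ u, Lf N u → ∃ i j : ℕ, ad u = ad (Ψ (dgM 1 η (η ^ 2) ^ i * shM _ ^ j))

theorem Mod.un {N : Subgroup (RingAut A)} {Ψ : M3 A →+* A} {η : Cn A} (μ : Mod N Ψ η) {M : M3 A} (h : M * star M = 1) :
    Un (Ψ M) := by rw [Un, ← μ.st, ← map_mul, h, map_one]

theorem Mod.cube {N : Subgroup (RingAut A)} {Ψ : M3 A →+* A} {η : Cn A} (μ : Mod N Ψ η) : η ^ 3 = 1 := by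
  linear_combination (η - 1) * μ.eta

namespace EC

variable {F : FR A} {G H N : Subgroup (RingAut A)} {m p : ℕ} (E : EC F G H N m p 3)
include E

theorem exists_mod : ∃ Ψ η, Mod N Ψ η := by
  obtain ⟨z₀, a1, a2⟩ := E.exists_not_cen
  obtain ⟨s₀, a3, a4⟩ := E.exists_not_comm a2
  obtain ⟨z, s, hz, hs, h1, h1', h2, -⟩ := E.norm_pair (by omega) a1 a3 a4
  obtain ⟨ρ, hρ, hρ'⟩ := E.exists_rho
  obtain ⟨ζ, b1, b2, b3⟩ := E.exists_cm hs hz
  have b4 : ζ ≠ 1 := fun h => h2 (b3.eq h)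
  have hf := (E.σ.fm hρ hρ' b3.1 b1 b2 b4 hz.1 h1 hs.1 b3.2).1
  have hc : ∀ i : ℕ, ζ ^ i ∈ Subring.center A := fun i => Subring.pow_mem _ b3.1 i
  have h5 : ∀ i : ℕ, s ^ i * pr ρ 3 (ζ ^ 0 * z) = pr ρ 3 (ζ ^ i * z) * s ^ i := fun i => comm_pr hρ (by
    rw [pow_zero, one_mul, ← star_star (ζ ^ i), star_pow, mul_assoc]
    exact (((b3.symm b1).pow i).symm (b1.st.pow i)).2)
  have h6 : ∀ i : ℕ, z * pr ρ 3 (ζ ^ i * z) = star ζ ^ i * pr ρ 3 (ζ ^ i * z) := fun i => (b1.pow i).cancel (by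
    rw [← mul_assoc, ← mul_assoc, ← star_pow, (b1.pow i).ms, one_mul, mul_pr hρ]
    rw [Commute.mul_pow (cen_comm (hc i) z).symm, ← pow_mul, mul_comm i, pow_mul, b2, one_pow, h1, mul_one])
  set e : Fin 3 → A := fun i => pr ρ 3 (ζ ^ (i : ℕ) * z)
  have h7 : ∀ i : Fin 3, s ^ (i : ℕ) * e 0 = e i * s ^ (i : ℕ) := fun i => h5 i
  have h8 : ∀ i : Fin 3, e 0 * star s ^ (i : ℕ) = star s ^ (i : ℕ) * e i := fun i => by
    have := congrArg star (h7 i)
    rwa [star_mul, star_mul, hf.symm, hf.symm, star_pow] at this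
  have h9 : ∀ i : ℕ, star s ^ i * s ^ i = 1 := fun i => by rw [← star_pow, (hs.1.pow i).sm]
  have h10 : ∀ i : Fin 3, s ^ (i : ℕ) * e 0 * star s ^ (i : ℕ) = e i := fun i => by
    rw [h7, mul_assoc, ← star_pow, (hs.1.pow i).ms, mul_one]
  obtain ⟨Ψ, hΨ⟩ := exists_hom (fun i j : Fin 3 => s ^ (i : ℕ) * e 0 * star s ^ (j : ℕ)) (fun i j k l => by
    rw [mul_assoc (s ^ (i : ℕ)), h8, h7 k]
    split_ifs with h
    · subst h
      rw [mul_assoc, mul_assoc, ← mul_assoc (e j), ← mul_assoc (e j), hf.idem, ← h7, ← mul_assoc (star s ^ (j : ℕ)),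
        ← mul_assoc (star s ^ (j : ℕ)), h9, one_mul, mul_assoc]
    · rw [mul_assoc, mul_assoc, ← mul_assoc (e j), ← mul_assoc (e j), hf.orth _ _ h]
      simp) (by simp only [h10]; exact hf.sum)
  have h11 : Ψ (dgM 1 (Cn.mk _ (star_cen b3.1)) (Cn.mk _ (star_cen b3.1) ^ 2)) = z := by
    rw [hΨ]
    conv_rhs => rw [← mul_one z, ← hf.sum, Finset.mul_sum]
    refine Finset.sum_congr rfl fun i _ => ?_
    rw [show z * e i = star ζ ^ (i : ℕ) * e i from h6 i, ← h10 i]
    fin_cases i <;> simp [dgM, Fin.sum_univ_three, Cn.val_mk]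
  have h12 : Ψ (shM _) = s := by
    rw [hΨ, Finset.sum_comm]
    conv_rhs => rw [← mul_one s, ← hf.sum, Finset.mul_sum]
    refine Finset.sum_congr rfl fun i _ => ?_
    rw [← h10 i, ← mul_assoc, ← mul_assoc, ← pow_succ']
    fin_cases i <;> simp [shM, Fin.sum_univ_three, h1']
  refine ⟨Ψ, Cn.mk _ (star_cen b3.1), ?_, fun M => ?_, fun c => ?_, Cn.inj ?_, Cn.inj ?_, by rw [h11]; exact hz, by rw [h12]; exact hs,
    fun u hu => ?_⟩
  · refine (injective_iff_map_eq_zero Ψ).2 fun M hM => Matrix.ext fun i j => Cn.inj ?_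
    have h13 := congrArg (fun x => Ψ (single 0 i 1) * x * Ψ (single j 0 1)) hM
    simp only [← map_mul, mul_zero, zero_mul, single_mul_mul_single, one_mul, mul_one] at h13
    rw [hΨ] at h13
    refine (hf.eq_zero (Cn.val_mem _) (i := 0) ?_).trans (map_zero _).symm
    simpa [Fin.sum_univ_three] using h13
  · rw [hΨ, hΨ, star_sum, Finset.sum_comm]
    refine Finset.sum_congr rfl fun i _ => ?_
    rw [star_sum]
    refine Finset.sum_congr rfl fun j _ => ?_
    rw [star_apply, Cn.val_star, star_mul, cen_comm (star_cen (Cn.val_mem _)), star_mul, star_mul, hf.symm, star_pow,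
      star_pow, star_star, mul_assoc (s ^ (j : ℕ))]
  · rw [hΨ]
    conv_rhs => rw [← mul_one (Cn.val c), ← hf.sum, Finset.mul_sum]
    refine Finset.sum_congr rfl fun i _ => ?_
    rw [← h10 i, Finset.sum_eq_single i (fun j _ hj => by rw [scalar_apply, diagonal_apply_ne _ hj.symm]; simp) (by simp),
      scalar_apply, diagonal_apply_eq]
  · have h13 := E.σ.sub_unit (star_cen b3.1) b1.st (Subring.one_mem _) Un.one (star_root b2 b4).2
    refine (h13.mul_right_eq_zero.1 ?_).trans (map_zero _).symm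
    rw [map_add, map_add, map_pow, map_one, Cn.val_mk]
    have h14 := (star_root b2 b4).1
    generalize star ζ = η at h14
    rw [← sub_eq_zero, pow_succ, pow_two] at h14
    rw [← h14, pow_two]
    noncomm_ring
  · rw [Cn.val_star, map_pow, Cn.val_mk]
    exact b1.st.star_eq (by rw [← pow_succ']; exact (star_root b2 b4).1)
  · obtain ⟨i, -, j, -, e1, e2⟩ := E.split hz hs h2.symm hu.st
    have h13 := ad_cen (E.three hz hs h2 (((hz.pow i).mul (hs.pow j)).mul hu.st) e1 e2)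
    rw [ad_mul ((hz.pow i).mul (hs.pow j)).1 hu.1.st, ad_star hu.1, mul_inv_eq_one] at h13
    exact ⟨i, j, by rw [map_mul, map_pow, map_pow, h11, h12, h13]⟩

variable {Ψ : M3 A →+* A} {η : Cn A} (μ : Mod N Ψ η)
include μ

theorem comm_S {X Y M : M3 A} (hX : X * star X = 1) (hY : Y * star Y = 1) (h : X * Y * star X * star Y = M) :
    ad (Ψ M) ∈ F.S := by
  rw [← h, map_mul, map_mul, map_mul, μ.st, μ.st]
  exact E.σ.comm_mem (μ.un hX) (μ.un hY)

theorem dg_S {u : Cn A} (hu : u * star u = 1) :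
    ad (Ψ (dgM u (star u) 1)) ∈ F.S ∧ ad (Ψ (dgM 1 u (star u))) ∈ F.S ∧ ad (Ψ (dgM (star u) 1 u)) ∈ F.S := by
  have h1 : shM (Cn A) * star (shM (Cn A)) = 1 := by
    simp only [shM, star3, mul_fin_three, one_fin_three]
    apply eq3 <;> simp
  refine ⟨E.comm_S μ (X := dgM u 1 1) ?_ h1 ?_, E.comm_S μ (X := dgM 1 u 1) ?_ h1 ?_,
    E.comm_S μ (X := dgM 1 1 u) ?_ h1 ?_⟩ <;>
  · simp only [shM, dgM, star3, mul_fin_three, one_fin_three]
    apply eq3 <;> simp [hu]

/-- the involutions of `H ⊓ S` -/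
theorem form {t : RingAut A} (ht : t ∈ H ⊓ F.S) (h1 : t * t = 1) (h2 : t ≠ 1) :
    ∃ T, Mono T ∧ Un (Ψ T) ∧ t = ad (Ψ T) := by
  have hP : Un (Ψ (swM _)) := μ.un (by
    simp only [swM, star3, mul_fin_three, one_fin_three]
    apply eq3 <;> simp)
  have h3 : ∀ {X : M3 A}, Lf N (Ψ X) → swM _ * X = star X * swM _ →
      ad (Ψ (swM _)) * ad (Ψ X) * (ad (Ψ (swM _)))⁻¹ = (ad (Ψ X))⁻¹ := fun {X} hX h => by
    rw [← ad_mul hP hX.1, ← map_mul, h, map_mul, μ.st, ad_mul hX.1.st hP, ad_star hX.1, mul_inv_cancel_right]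
  have h4 := h3 μ.lz (by
    simp only [swM, dgM, star3, mul_fin_three]
    apply eq3 <;> simp [μ.eta']
    linear_combination (-η) * μ.cube)
  have h5 := h3 μ.ls (by
    simp only [swM, shM, star3, mul_fin_three]
    apply eq3 <;> simp)
  have h6 : ∀ ν ∈ N, ad (Ψ (swM _)) * ν * (ad (Ψ (swM _)))⁻¹ = ν⁻¹ := fun ν hν => by
    obtain ⟨u, hu, rfl⟩ := E.σ.exists_lf hν
    obtain ⟨i, j, e⟩ := μ.gen u hu
    rw [e, map_mul, map_pow, map_pow, ad_mul (μ.lz.1.pow i) (μ.ls.1.pow j), ad_pow μ.lz.1, ad_pow μ.ls.1, ← conj_mul,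
      ← conj_pow, ← conj_pow, h4, h5, inv_pow, inv_pow, ← _root_.mul_inv_rev,
      E.σ.comm _ (N.pow_mem μ.ls.2 j) _ (N.pow_mem μ.lz.2 i)]
  obtain ⟨τ, hτ, rfl⟩ := exists_of_PI (F.S_le_PI ht.2)
  have h7 := E.σ.cent (hτ.mul hP.st) fun ν hν => by
    have h8 := h6 _ (N.inv_mem hν)
    rw [ad_mul hτ hP.st, ad_star hP]
    calc _ = ad τ * (ad (Ψ (swM _)))⁻¹ * ν⁻¹⁻¹ := by rw [inv_inv]
      _ = ad τ * ν⁻¹ * (ad τ)⁻¹ * (ad τ * (ad (Ψ (swM _)))⁻¹) := by rw [← h8]; group
      _ = _ := by rw [E.inverts ht h1 h2 _ (N.inv_mem hν), inv_inv]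
  obtain ⟨i, j, e⟩ := μ.gen _ ⟨hτ.mul hP.st, h7⟩
  have h8 : Un (Ψ (dgM 1 η (η ^ 2) ^ i * shM _ ^ j)) := by
    rw [map_mul, map_pow, map_pow]
    exact (μ.lz.1.pow i).mul (μ.ls.1.pow j)
  refine ⟨_, mono_pow μ.cube i j, by rw [map_mul]; exact h8.mul hP, ?_⟩
  rw [map_mul, ad_mul h8 hP, ← e, ad_mul hτ hP.st, ad_star hP, inv_mul_cancel_right]

theorem not_bad (hd : ¬ 2 ∣ Nat.card H / m) {M : M3 A} (h1 : M * star M = 1) (h2 : ad (Ψ M) ∈ F.S) : ¬ Bad M := by
  have : Fact (Nat.Prime 2) := ⟨Nat.prime_two⟩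
  obtain ⟨t, a1, a2, a3⟩ := E.exists_invol
  have hn : ∀ a ∈ H ⊓ F.S, ∀ x ∈ H ⊓ F.S, a * x * a⁻¹ ∈ H ⊓ F.S := fun a ha x hx => E.c.conj_inf ha.1 hx
  obtain ⟨b, b1, b2⟩ := E.c.in.uni hd inf_le_left (fun a ha x hx => E.c.conj_inf ha hx) le_rfl hn
    (Y := four a2 (one_mul 1) (Commute.one_right t)) (fun x => ⟨1, Subtype.ext ((pow_two _).trans x.2.1)⟩) (by
      rintro _ ⟨-, i, j, rfl⟩
      exact mul_mem (pow_mem a1 i) (pow_mem (one_mem _) j)) (E.c.S_le h2)
  have b3 := mem_cj.1 (b2 (conj_mem_cj b (x := t) ⟨a2, 1, 0, by simp⟩))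
  have c1 := hn b b1 t a1
  have c2 : b * t * b⁻¹ * (b * t * b⁻¹) = 1 := by rw [conj_mul, a2]; group
  have c3 : b * t * b⁻¹ ≠ 1 := fun h => a3 (by rwa [mul_inv_eq_one, mul_eq_left] at h)
  generalize b * t * b⁻¹ = t' at b3 c1 c2 c3
  obtain ⟨T', d1, d2, d3⟩ := E.form μ c1 c2 c3
  obtain ⟨T, e1, e2, e3⟩ := E.form μ ⟨b3, F.S.mul_mem (F.S.mul_mem (F.S.inv_mem h2) c1.2) h2⟩ (by
    calc _ = (ad (Ψ M))⁻¹ * (t' * t') * ad (Ψ M) := by group
      _ = 1 := by rw [c2]; group) fun h => c3 (by rwa [mul_assoc, inv_mul_eq_one, right_eq_mul] at h)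
  have hM := μ.un h1
  obtain ⟨c, f1, f2, f3⟩ := (ad_eq_iff (hM.mul e2) (d2.mul hM)).1 (by
    rw [ad_mul hM e2, ad_mul d2 hM, ← e3, ← d3]; group)
  refine Ext.not_bad e1 d1 (c := Cn.mk c f1) (IsUnit.of_mul_eq_one (star (Cn.mk c f1)) (Cn.inj f2)) (μ.inj ?_)
  rw [map_mul, map_mul, map_mul, μ.sc, f3, Cn.val_mk]

theorem ne_one {a b c : Cn A} (h : dgM a b c * star (dgM a b c) = 1) (h1 : a ≠ b ∨ b ≠ c) : ad (Ψ (dgM a b c)) ≠ 1 := by
  intro h2
  have h3 := μ.inj ((μ.sc (Cn.mk _ ((ad_eq_one_iff (μ.un h)).1 h2))).trans (Cn.val_mk _ _))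
  have h4 := congrFun (congrFun h3 0) 0
  have h5 := congrFun (congrFun h3 1) 1
  have h6 := congrFun (congrFun h3 2) 2
  simp [dgM] at h4 h5 h6
  exact h1.elim (fun h => h (h4.symm.trans h5)) fun h => h (h5.symm.trans h6)

omit E in
theorem ad_mul_M {X Y Z : M3 A} (hX : X * star X = 1) (hY : Y * star Y = 1) (h : X * Y = Z) :
    ad (Ψ X) * ad (Ψ Y) = ad (Ψ Z) := by rw [← ad_mul (μ.un hX) (μ.un hY), ← map_mul, h]

omit μ in
/-- **the case `3²`** -/
theorem not_three (hb : Nat.card N ≤ 9 → (∃ ε : A, Eps ε) ∨ 4 < Nat.card (Subring.center A)) : False := by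
  obtain ⟨Ψ, η, μ⟩ := E.exists_mod
  have := E.σ.ss.nontrivial
  have : Nontrivial (Cn A) := inferInstanceAs (Nontrivial (Subring.center A))
  have h1 := μ.eta
  have h2 := μ.eta'
  have h3 := μ.cube
  obtain ⟨ρ', hρ, hρ'⟩ := E.exists_rho
  obtain ⟨ρ, h4⟩ : ∃ ρ : Cn A, ρ * 3 = 1 := ⟨Cn.mk _ hρ, Cn.inj (by rw [map_mul, map_ofNat]; exact hρ')⟩
  by_cases hp : 2 = p
  · have hd : ¬ 2 ∣ Nat.card H / m := hp ▸ E.c.not_dvd_d
    have h5 : (2 : Cn A) = 0 := Cn.inj (by rw [map_ofNat, map_zero, ← E.c.char, ← hp]; rfl)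
    by_cases hε : ∃ ε : A, Eps ε
    · obtain ⟨ε', hε⟩ := hε
      obtain ⟨ε, e1, e2, e3⟩ : ∃ ε : Cn A, ε * star ε = 0 ∧ ε + star ε = 1 ∧ ε ≠ 0 :=
        ⟨Cn.mk _ hε.cen, Cn.inj hε.ms, Cn.inj hε.add, fun h => hε.ne_zero (congrArg Cn.val h)⟩
      have e4 : star ε ≠ 0 := star_ne_zero.2 e3
      have e5 : IsUnit (η - 1) := IsUnit.of_mul_eq_one (-ρ * (η + 2)) (by linear_combination h4 - ρ * h1)
      have e6 : IsUnit (η ^ 2 - 1) := by simpa [h2] using e5.star
      have e7 : ∀ {x : Cn A}, x * x = x → ∀ k : ℕ, x ^ (k + 1) = x := fun {x} h k => IsIdempotentElem.pow_succ_eq k h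
      refine E.not_bad μ hd ?_ (E.comm_S μ (X := dgM 1 η 1) (Y := blM 1 1 ε (-star ε) 1) ?_ ?_ ?_)
        (bad_tr (y := (η - 1) * ε) (y' := (η ^ 2 - 1) * star ε) (by linear_combination (η - 1) * (η ^ 2 - 1) * e1) ?_ ?_)
      · simp only [blM, star3, mul_fin_three, one_fin_three]
        apply eq3 <;> simp [h2]
        all_goals grind
      · simp only [dgM, star3, mul_fin_three, one_fin_three]
        apply eq3 <;> simp [h2]
        all_goals grind
      · simp only [blM, star3, mul_fin_three, one_fin_three]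
        apply eq3 <;> simp
        all_goals grind
      · simp only [blM, dgM, star3, mul_fin_three]
        apply eq3 <;> simp [h2]
        all_goals grind
      · rw [mul_pow, Ne, (e5.pow 6).mul_right_eq_zero, e7 (by linear_combination e1 + ε * e2 - 2 * e1)]
        exact e3
      · rw [mul_pow, Ne, (e6.pow 3).mul_right_eq_zero, e7 (by linear_combination star ε * e2 - e1)]
        exact e4
    · by_cases hu : ∃ b : Cn A, b * star b = 1 ∧ b ^ 3 ≠ 1
      · obtain ⟨b, e1, e2⟩ := hu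
        have e3 : Un (Cn.val b) := congrArg Cn.val e1
        have e4 := E.σ.sub_unit (Subring.pow_mem _ (Cn.val_mem b) 3) (e3.pow 3) (Subring.one_mem _) Un.one
          fun h => e2 (Cn.inj (by rw [map_pow, map_one, h]))
        refine E.not_bad μ hd ?_ (E.dg_S μ e1).2.1 (bad_dg e1 fun h => e2 (Cn.inj ?_))
        · simp only [dgM, star3, mul_fin_three, one_fin_three]
          apply eq3 <;> simp [e1, mul_comm (star b)]
        · have e5 : (b ^ 3 - 1) * (b ^ 3 - 1) = 0 := by grind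
          have e6 := congrArg Cn.val e5
          rw [map_mul, map_sub, map_pow, map_one, map_zero, e4.mul_right_eq_zero, sub_eq_zero] at e6
          rw [map_pow, map_one, e6]
      · push Not at hu
        have e0 : ∀ x : Cn A, x ≠ 0 → ∃ y, x * y = 1 := fun x hx => by
          obtain ⟨v, hv⟩ := E.σ.ss.isUnit_of_not_eps hε (Cn.val_mem x) fun h => hx (Cn.inj (h.trans (map_zero _).symm))
          have : ((v⁻¹ : Aˣ) : A) ∈ Subring.center A := Subring.mem_center_iff.2 fun a => by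
            rw [Units.mul_inv_eq_iff_eq_mul, mul_assoc, Units.eq_inv_mul_iff_mul_eq, hv]
            exact (cen_comm (Cn.val_mem x) a).symm
          exact ⟨Cn.mk _ this, Cn.inj (by rw [map_mul, Cn.val_mk, ← hv, map_one, Units.mul_inv])⟩
        have e1 : ∀ x : Cn A, x ^ 3 = star x ^ 3 := fun x => by
          by_cases hx : x = 0
          · rw [hx, star_zero]
          obtain ⟨y, hy⟩ := e0 x hx
          have hy' := congrArg star hy
          rw [star_mul', star_one] at hy'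
          have := hu (x * star y) (by rw [star_mul', star_star]; grind)
          grind
        have e2 : ∀ x : Cn A, x = star x ∨ x + star x = 1 := fun x => by
          by_contra hx
          obtain ⟨y, hy⟩ := e0 _ (sub_ne_zero.2 fun h => hx (Or.inl h))
          obtain ⟨y', hy'⟩ := e0 _ (sub_ne_zero.2 fun h => hx (Or.inr h))
          have a1 := e1 x
          have a2 := e1 (x + 1)
          rw [star_add, star_one] at a2
          have a3 : (x - star x) * (x + star x - 1) = 0 := by grind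
          exact zero_ne_one (α := Cn A) (by grind)
        have e3 : ∀ x : Cn A, x = star x → x = 0 ∨ x = 1 := fun x hx => by
          refine (e2 (x * η)).imp (fun h => ?_) fun h => ?_ <;> rw [star_mul', ← hx, h2] at h <;> grind
        refine absurd ((hb E.card_le_nine).resolve_left hε) (not_lt.2 ?_)
        refine (Nat.card_le_card_of_surjective (α := Fin 4) (β := Cn A) ![0, 1, η, η + 1] fun x => ?_).trans (by simp)
        rcases e2 x with h | h
        · rcases e3 x h with h | h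
          exacts [⟨0, h.symm⟩, ⟨1, h.symm⟩]
        · rcases e3 (x + η) (by rw [star_add, h2]; grind) with h' | h'
          exacts [⟨2, show η = x by grind⟩, ⟨3, show η + 1 = x by grind⟩]
  · obtain ⟨h', a1, a2⟩ := E.exists_inv Nat.prime_two hp
    obtain ⟨h, a3⟩ : ∃ h : Cn A, h * 2 = 1 := ⟨Cn.mk _ a1, Cn.inj (by rw [map_mul, map_ofNat]; exact a2)⟩
    have a4 : star h = h := by
      have := congrArg star a3
      rw [star_mul', star_ofNat, star_one] at this
      linear_combination h * this - star h * a3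
    have a5 : (1 : Cn A) ≠ -1 := fun h => zero_ne_one (α := Cn A) (by grind)
    have a6 := E.dg_S μ (u := -1) (by simp)
    rw [star_neg, star_one] at a6
    have a7 : ∀ a b c : Cn A, a * star a = 1 → b * star b = 1 → c * star c = 1 → dgM a b c * star (dgM a b c) = 1 :=
      fun a b c ha hb hc => by
        simp only [dgM, star3, mul_fin_three, one_fin_three]
        apply eq3 <;> simp [ha, hb, hc]
    have a8 : ∀ {a b c a' b' c' : Cn A}, dgM a b c * dgM a' b' c' = dgM (a * a') (b * b') (c * c') := by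
      intro a b c a' b' c'
      simp only [dgM, mul_fin_three]
      apply eq3 <;> simp
    have a9 : ad (Ψ (dgM 1 1 1)) = 1 := by rw [show dgM (1 : Cn A) 1 1 = 1 from one_fin_three.symm, map_one, ad_one]
    have u1 := a7 (-1) (-1) 1 (by simp) (by simp) (by simp)
    have u2 := a7 1 (-1) (-1) (by simp) (by simp) (by simp)
    have u3 := a7 (-1) 1 (-1) (by simp) (by simp) (by simp)
    have hd := E.not_two_dvd a6.1 a6.2.1 (by rw [ad_mul_M μ u1 u1 a8, ← a9]; simp)
      (by rw [ad_mul_M μ u2 u2 a8, ← a9]; simp) (by rw [Commute, SemiconjBy, ad_mul_M μ u1 u2 a8, ad_mul_M μ u2 u1 a8]; simp)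
      (E.ne_one μ u1 (Or.inr a5.symm)) (E.ne_one μ u2 (Or.inl a5))
      (by rw [ad_mul_M μ u1 u2 a8]; simpa using E.ne_one μ u3 (Or.inl a5.symm))
    have u4 : blM 1 (-h) ((η ^ 2 - η) * h) ((η ^ 2 - η) * h) (-h) *
        star (blM 1 (-h) ((η ^ 2 - η) * h) ((η ^ 2 - η) * h) (-h)) = 1 := by
      simp only [blM, star3, mul_fin_three, one_fin_three]
      apply eq3 <;> simp [h2, a4]
      all_goals grind
    have b1 := E.comm_S μ (X := dgM 1 (-1) 1) (Y := blM 1 ((1 + η) * h) ((η - 1) * h) ((η - 1) * h) ((1 + η) * h))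
      (M := blM 1 (-h) ((η ^ 2 - η) * h) ((η ^ 2 - η) * h) (-h)) (a7 _ _ _ (by simp) (by simp) (by simp)) (by
        simp only [blM, star3, mul_fin_three, one_fin_three]
        apply eq3 <;> simp [h2, a4]
        all_goals grind) (by
        simp only [blM, dgM, star3, mul_fin_three]
        apply eq3 <;> simp [h2, a4]
        all_goals grind)
    have b2 := F.S.mul_mem a6.2.2 b1
    rw [ad_mul_M μ u3 u4 (Z := blM (-1) (-h) ((η ^ 2 - η) * h) (-((η ^ 2 - η) * h)) (- -h)) (by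
      simp only [blM, dgM, mul_fin_three]
      apply eq3 <;> simp)] at b2
    refine E.not_bad μ hd ?_ b2 (bad_odd (IsUnit.of_mul_eq_one (-2) (by grind))
      (IsUnit.of_mul_eq_one (-2 * ρ * (η ^ 2 - η)) (by grind)) fun h => zero_ne_one (α := Cn A) (by grind))
    simp only [blM, star3, mul_fin_three, one_fin_three]
    apply eq3 <;> simp [h2, a4]
    all_goals grind

end EC

end Cfsg.Agent.TH.Cl.Ext
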