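import Cfsg.Agent.TH.Cl.Ext.Inv3

/-!
# S3541, box `Ext`, `r = 2`: quaternion pairs and block elements (helper58)
-/

set_option autoImplicit false
set_option linter.unusedSectionVars false

namespace Cfsg.Agent.TH.Cl.Ext

open Cfsg.Agent.DS.Cl Cfsg.Agent.DS.Cl.Fwd Cfsg.Agent.SB.Cl

variable {A : Type} [Ring A] [StarRing A] [Finite A]

/-- one half -/
structure Hf (h : A) : Prop where
  cen : h ∈ Subring.center A
  two : h * 2 = 1

namespace Hf

variable {h : A} (hh : Hf h)
include hh

theorem out (x y : A) : x * (h * y) = h * (x * y) := by rw [← mul_assoc, cen_comm hh.cen, mul_assoc]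

theorem dbl (x : A) : h * (x + x) = x := by rw [← two_mul, ← mul_assoc, hh.two, one_mul]

theorem eq_of {h' : A} (e : h' * 2 = 1) : h' = h := by
  rw [← hh.dbl h', ← mul_two, e, mul_one]

theorem st : star h = h := hh.eq_of (by
  have := congrArg star hh.two
  rwa [star_mul, star_ofNat, star_one, two_mul, ← mul_two] at this)

theorem map (γ : RingAut A) : γ h = h := hh.eq_of (by rw [← map_ofNat γ 2, ← map_mul, hh.two, map_one])

theorem eq_zero {x : A} (e : x = -x) : x = 0 := by
  rw [← hh.dbl x]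
  nth_rw 2 [e]
  rw [add_neg_cancel, mul_zero]

end Hf

/-- a quaternion pair of lifts commuting with `z` -/
structure Qz (N : Subgroup (RingAut A)) (z a b : A) : Prop where
  la : Lf N a
  lb : Lf N b
  aa : a * a = -1
  bb : b * b = -1
  ba : b * a = -(a * b)
  za : z * a = a * z
  zb : z * b = b * z

/-- an element of order six permuting `a, b, a b` -/
def oo (h a b : A) : A := h * (1 + a + b + a * b)

/-- `P` on the `+1` eigenspace of `z` and `Q` on the `-1` eigenspace -/
def blk (h z P Q : A) : A := h * ((1 + z) * P + (1 - z) * Q)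

/-- the basic element -/
def sg (h z a b : A) : A := blk h z (oo h a b) (star (oo h a b))

theorem star_of_sq {a : A} (ha : Un a) (h : a * a = -1) : star a = -a := ha.star_eq (by rw [mul_neg, h, neg_neg])

namespace Qz

variable {N : Subgroup (RingAut A)} {z a b : A} (q : Qz N z a b)
include q

theorem aa' (x : A) : a * (a * x) = -x := by rw [← mul_assoc, q.aa, neg_one_mul]

theorem bb' (x : A) : b * (b * x) = -x := by rw [← mul_assoc, q.bb, neg_one_mul]

theorem ba' (x : A) : b * (a * x) = -(a * (b * x)) := by rw [← mul_assoc, q.ba, neg_mul, mul_assoc]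

theorem comm_c {x : A} (h1 : x * a = a * x) (h2 : x * b = b * x) : x * (a * b) = a * b * x := by
  rw [← mul_assoc, h1, mul_assoc, h2, mul_assoc]

theorem bab : b * (a * b) = a := by rw [q.ba', q.bb, mul_neg, neg_neg, mul_one]

theorem rot : Qz N z b (a * b) := ⟨q.lb, q.la.mul q.lb, q.bb, by rw [mul_assoc, q.bab, q.aa], by
  rw [q.bab, mul_assoc, q.bb, mul_neg, mul_one], q.zb, q.comm_c q.za q.zb⟩

theorem neg : Qz N z (-a) b := ⟨q.la.neg, q.lb, by rw [neg_mul_neg, q.aa], q.bb, by rw [mul_neg, neg_mul, q.ba], by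
  rw [mul_neg, neg_mul, q.za], q.zb⟩

theorem swap : Qz N z b a := ⟨q.lb, q.la, q.bb, q.aa, by rw [q.ba, neg_neg], q.zb, q.za⟩

theorem zmul (hz : Lf N z) (zz : z * z = 1) : Qz N z (z * a) b := ⟨hz.mul q.la, q.lb, by
  rw [mul_assoc, ← mul_assoc a, ← q.za, mul_assoc, q.aa, ← mul_assoc, zz, one_mul], q.bb, by
  rw [← mul_assoc, ← q.zb, mul_assoc, q.ba, mul_neg, mul_assoc], by rw [mul_assoc, q.za], q.zb⟩

theorem of {y : A} (h1 : y * a = a * y) (h2 : y * b = b * y) : Qz N y a b := ⟨q.la, q.lb, q.aa, q.bb, q.ba, h1, h2⟩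

theorem negz : Qz N (-z) a b := q.of (by rw [mul_neg, neg_mul, q.za]) (by rw [mul_neg, neg_mul, q.zb])

theorem sa : star a = -a := star_of_sq q.la.1 q.aa

theorem sb : star b = -b := q.swap.sa

theorem sc : star (a * b) = -(a * b) := q.rot.sb

variable {h : A} (hh : Hf h)

theorem oo_rot : oo h b (a * b) = oo h a b := by
  rw [oo, oo, q.bab]
  congr 1
  abel

theorem comm_oo {x : A} (hh : Hf h) (h1 : x * a = a * x) (h2 : x * b = b * x) : x * oo h a b = oo h a b * x := by
  rw [oo, hh.out, mul_assoc, mul_add x, mul_add x, mul_add x, q.comm_c h1 h2, h1, h2, add_mul, add_mul, add_mul, mul_one,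
    one_mul]

include hh

theorem ne_comm [Nontrivial A] : a * b ≠ b * a := fun e =>
  (q.la.mul q.lb).1.isUnit.ne_zero (hh.eq_zero (e.trans q.ba))

theorem ne_pm [Nontrivial A] : ¬ (b = a ∨ b = -a) := fun e => q.ne_comm hh (by
  rcases e with rfl | rfl
  · rfl
  · rw [mul_neg, neg_mul])

theorem z_oo : z * oo h a b = oo h a b * z := q.comm_oo hh q.za q.zb

theorem oo_a : oo h a b * a = b * oo h a b := by
  rw [oo, hh.out, mul_assoc]
  congr 1
  simp only [mul_add, add_mul, mul_assoc, mul_one, one_mul, mul_neg, neg_neg, q.aa, q.bb, q.ba, q.aa', q.ba']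
  abel

theorem oo_b : oo h a b * b = a * b * oo h a b := by rw [← q.oo_rot, q.rot.oo_a hh]

theorem oo_c : oo h a b * (a * b) = a * oo h a b := by rw [← q.oo_rot, q.rot.oo_b hh, q.bab]

theorem oo_sq : oo h a b * oo h a b = oo h a b - 1 := by
  have h1 : (1 + a + b + a * b) * (1 + a + b + a * b) = (a + b + a * b - 1) + (a + b + a * b - 1) := by
    simp only [mul_add, add_mul, mul_assoc, mul_one, one_mul, mul_neg, neg_neg, q.aa, q.bb, q.ba, q.aa', q.ba']
    abel
  rw [oo, mul_assoc, hh.out, h1, hh.dbl, ← hh.dbl 1, ← mul_sub, hh.dbl 1]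
  congr 1
  abel

theorem star_oo : star (oo h a b) = 1 - oo h a b := by
  rw [oo, star_mul, hh.st, cen_comm hh.cen, star_add, star_add, star_add, q.sc, q.sa, q.sb, star_one]
  nth_rw 2 [← hh.dbl 1]
  rw [← mul_sub]
  congr 1
  abel

theorem un_oo : Un (oo h a b) := by rw [Un, q.star_oo hh, mul_sub, q.oo_sq hh, mul_one, sub_sub_cancel]

theorem z_soo : z * star (oo h a b) = star (oo h a b) * z := by
  rw [q.star_oo hh, mul_sub, sub_mul, q.z_oo hh, mul_one, one_mul]

theorem soo_a : star (oo h a b) * a = a * b * star (oo h a b) := (q.un_oo hh).cancel (by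
  rw [← mul_assoc, ← mul_assoc, q.oo_c hh, (q.un_oo hh).ms, mul_assoc, (q.un_oo hh).ms, one_mul, mul_one])

theorem soo_b : star (oo h a b) * b = a * star (oo h a b) := by rw [← q.oo_rot, q.rot.soo_a hh, q.bab]

theorem soo_c : star (oo h a b) * (a * b) = b * star (oo h a b) := by rw [← q.oo_rot, q.rot.soo_b hh]

theorem oo_cube : oo h a b * (oo h a b * oo h a b) = -1 := by
  rw [q.oo_sq hh, mul_sub, q.oo_sq hh, mul_one]
  abel

theorem soo_cube : star (oo h a b) * (star (oo h a b) * star (oo h a b)) = -1 := by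
  rw [← star_mul, ← star_mul, mul_assoc, q.oo_cube hh, star_neg, star_one]

omit hh in
theorem oo_neg : oo h (-a) b = oo h a b * -(a * b) := by
  rw [oo, oo, mul_assoc]
  congr 1
  simp only [add_mul, mul_assoc, mul_one, one_mul, mul_neg, neg_mul, neg_neg, q.aa, q.bb, q.aa', q.ba']
  abel

theorem oo_swap : oo h b a = star (oo h a b) * b := by
  rw [q.star_oo hh, sub_mul, one_mul, oo, oo, mul_assoc, ← hh.dbl b, ← mul_sub, hh.dbl b]
  congr 1
  simp only [add_mul, mul_assoc, mul_one, one_mul, mul_neg, q.bb, q.ba]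
  abel

end Qz

section blk

variable {h z y x P Q P' Q' : A}

theorem blk_mul_r (h z P Q x : A) : blk h z P Q * x = blk h z (P * x) (Q * x) := by
  simp only [blk, mul_assoc, add_mul]

theorem blk_negz (h z P Q : A) : blk h (-z) P Q = blk h z Q P := by
  rw [blk, blk, sub_neg_eq_add, ← sub_eq_add_neg, add_comm]

theorem blk_add (h z P Q P' Q' : A) : blk h z P Q + blk h z P' Q' = blk h z (P + P') (Q + Q') := by
  simp only [blk, mul_add]
  abel

theorem blk_neg (h z P Q : A) : -blk h z P Q = blk h z (-P) (-Q) := by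
  simp only [blk, mul_add, mul_neg, neg_add]

variable (hh : Hf h)
include hh

theorem blk_same (z P : A) : blk h z P P = P := by rw [blk, ← add_mul, add_add_sub_cancel, add_mul, one_mul, hh.dbl]

theorem blk_opp (z P : A) : blk h z P (-P) = z * P := by
  rw [blk, mul_neg, ← sub_eq_add_neg, ← sub_mul, add_sub_sub_cancel, add_mul, hh.dbl]

theorem mul_blk (e : z * x = x * z) (P Q : A) : x * blk h z P Q = blk h z (x * P) (x * Q) := by
  simp only [blk, hh.out x, mul_add, add_mul, sub_mul, mul_sub, one_mul, ← mul_assoc x z, ← e, mul_assoc]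

theorem anti_blk (e : y * z = -(z * y)) (P Q : A) : y * blk h z P Q = blk h z (y * Q) (y * P) := by
  simp only [blk, hh.out y, mul_add, add_mul, sub_mul, mul_sub, one_mul, ← mul_assoc y z, e, mul_assoc, neg_mul, mul_neg]
  abel

theorem blk_mul (zz : z * z = 1) (e1 : z * P = P * z) (e2 : z * Q = Q * z) (P' Q' : A) :
    blk h z P Q * blk h z P' Q' = blk h z (P * P') (Q * Q') := by
  have h1 : ∀ X Y, (1 + z) * blk h z X Y = (1 + z) * X := fun X Y => by
    rw [blk, hh.out]
    refine Eq.trans (congrArg _ ?_) (hh.dbl _)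
    simp only [mul_add, add_mul, sub_mul, mul_sub, one_mul, ← mul_assoc z z, zz]
    abel
  have h2 : ∀ X Y, (1 - z) * blk h z X Y = (1 - z) * Y := fun X Y => by
    rw [blk, hh.out]
    refine Eq.trans (congrArg _ ?_) (hh.dbl _)
    simp only [mul_add, add_mul, sub_mul, mul_sub, one_mul, ← mul_assoc z z, zz]
    abel
  rw [blk_mul_r, mul_blk hh e1, mul_blk hh e2, blk, h1, h2, blk]

theorem z_blk (e1 : z * P = P * z) (e2 : z * Q = Q * z) : z * blk h z P Q = blk h z P Q * z := by
  rw [mul_blk hh rfl, blk_mul_r, e1, e2]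

theorem star_blk (sz : star z = z) (e1 : z * P = P * z) (e2 : z * Q = Q * z) :
    star (blk h z P Q) = blk h z (star P) (star Q) := by
  have h1 := congrArg star e1
  have h2 := congrArg star e2
  rw [star_mul, star_mul, sz] at h1 h2
  rw [blk, blk, star_mul, hh.st, cen_comm hh.cen]
  simp only [star_add, star_mul, star_sub, sz, mul_add, add_mul, mul_sub, sub_mul, one_mul, h1, h2]

theorem un_blk (hz : Un z) (zz : z * z = 1) (e1 : z * P = P * z) (e2 : z * Q = Q * z) (h1 : Un P) (h2 : Un Q) :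
    Un (blk h z P Q) := by
  rw [Un, star_blk hh (hz.star_eq zz) e1 e2, blk_mul hh zz e1 e2, h1, h2, blk_same hh]

theorem map_blk (γ : RingAut A) : γ (blk h z P Q) = blk h (γ z) (γ P) (γ Q) := by
  simp only [blk, map_mul, map_add, map_sub, map_one, hh.map]

theorem map_sg {γ : RingAut A} (hγ : γ ∈ SAut A) (a b : A) : γ (sg h z a b) = sg h (γ z) (γ a) (γ b) := by
  have h1 : γ (oo h a b) = oo h (γ a) (γ b) := by simp only [oo, map_mul, map_add, map_one, hh.map]
  rw [sg, sg, map_blk hh, hγ, h1]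

end blk

/-- `± a, ± b, ± a b` up to `z` -/
def Tz (z a b w : A) : Prop := ∃ s, (s = 1 ∨ s = -1 ∨ s = z ∨ s = -z) ∧ (w = s * a ∨ w = s * b ∨ w = s * (a * b))

theorem Tz.comm {z a b w x : A} (h : Tz z a b w) (h0 : x * z = z * x) (h1 : x * a = a * x) (h2 : x * b = b * x) :
    x * w = w * x := by
  obtain ⟨s, hs, hw⟩ := h
  have h3 : Commute x s := by
    rcases hs with rfl | rfl | rfl | rfl
    exacts [Commute.one_right x, Commute.neg_one_right x, h0, Commute.neg_right h0]
  rcases hw with rfl | rfl | rfl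
  exacts [h3.mul_right h1, h3.mul_right h2, h3.mul_right (Commute.mul_right h1 h2)]

/-- **the moves** -/
theorem Qz.ind {N : Subgroup (RingAut A)} {z a b : A} (q : Qz N z a b) (hz : Lf N z)
    (zz : z * z = 1) {P : A → A → Prop} (h1 : P a b) (h2 : P b a) (rot : ∀ x y, Qz N z x y → P x y → P y (x * y))
    (neg : ∀ x y, Qz N z x y → P x y → P (-x) y) (zm : ∀ x y, Qz N z x y → P x y → P (z * x) y) {a' b' : A}
    (e : a' * b' ≠ b' * a') (ha : Tz z a b a') (hb : Tz z a b b') : P a' b' := by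
  have r : ∀ {x y}, Qz N z x y ∧ P x y → Qz N z y (x * y) ∧ P y (x * y) := fun h => ⟨h.1.rot, rot _ _ h.1 h.2⟩
  have n : ∀ {x y}, Qz N z x y ∧ P x y → Qz N z (-x) y ∧ P (-x) y := fun h => ⟨h.1.neg, neg _ _ h.1 h.2⟩
  have k : ∀ {x y}, Qz N z x y ∧ P x y → Qz N z (z * x) y ∧ P (z * x) y :=
    fun h => ⟨h.1.zmul hz zz, zm _ _ h.1 h.2⟩
  have l : ∀ {s x y}, (s = 1 ∨ s = -1 ∨ s = z ∨ s = -z) → Qz N z x y ∧ P x y → Qz N z (s * x) y ∧ P (s * x) y := by
    rintro s x y (rfl | rfl | rfl | rfl) h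
    · rwa [one_mul]
    · rw [neg_one_mul]; exact n h
    · exact k h
    · rw [neg_mul]; exact n (k h)
  have l' : ∀ {s x y}, (s = 1 ∨ s = -1 ∨ s = z ∨ s = -z) → Qz N z x y ∧ P x y → Qz N z x (s * y) ∧ P x (s * y) := by
    intro s x y hs h
    have h3 := r (l hs (r (r h)))
    rwa [h.1.bab, mul_assoc, mul_assoc, h.1.ba, mul_neg, h.1.aa', neg_neg] at h3
  obtain ⟨s, hs, ha⟩ := ha
  obtain ⟨t, ht, hb⟩ := hb
  have m : ∀ {x y}, Qz N z x y ∧ P x y → P (s * x) (t * y) := fun h => (l' ht (l hs h)).2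
  have d : ∀ x, z * x = x * z → s * x * (t * x) = t * x * (s * x) := fun x hx => by
    have h3 : ∀ {s}, (s = 1 ∨ s = -1 ∨ s = z ∨ s = -z) → ∀ {y}, Commute z y → Commute s y := by
      rintro s (rfl | rfl | rfl | rfl) y hy
      exacts [Commute.one_left y, Commute.neg_one_left y, hy, hy.neg_left]
    exact ((h3 hs (h3 ht (Commute.refl z)).symm).mul_right (h3 hs hx)).mul_left
      ((h3 ht hx).symm.mul_right (Commute.refl x))
  have p1 := And.intro q h1
  have p2 := And.intro q.swap h2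
  have p3 : Qz N z a (a * b) ∧ P a (a * b) := by
    have h3 := l' (Or.inr (Or.inl rfl)) (r p2)
    rwa [q.ba, neg_one_mul, neg_neg] at h3
  rcases ha with rfl | rfl | rfl <;> rcases hb with rfl | rfl | rfl
  · exact absurd (d _ q.za) e
  · exact m p1
  · exact m p3
  · exact m p2
  · exact absurd (d _ q.zb) e
  · exact m (r p1)
  · have h3 := r (r p1)
    rw [q.bab] at h3
    exact m h3
  · have h3 := l' (Or.inr (Or.inl rfl)) (r p3)
    rw [q.aa', neg_one_mul, neg_neg] at h3
    exact m h3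
  · exact absurd (d _ q.rot.zb) e

end Cfsg.Agent.TH.Cl.Ext
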