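import Cfsg.Agent.TH.Cl.Ext.TwoG

/-!
# S3541, box `Ext`, `r = 2`: the basic element and the two local arguments (helper58)
-/

set_option autoImplicit false
set_option linter.unusedSectionVars false

namespace Cfsg.Agent.TH.Cl.Ext

open Cfsg.Agent.DS.Cl Cfsg.Agent.DS.Cl.Fwd Cfsg.Agent.SB.Cl

variable {A : Type} [Ring A] [StarRing A] [Finite A]

/-- a lift of order two with an anticommuting partner -/
structure Hy (N : Subgroup (RingAut A)) (z y : A) : Prop where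
  lz : Lf N z
  ly : Lf N y
  zz : z * z = 1
  yz : y * z = -(z * y)

theorem Hy.sz {N : Subgroup (RingAut A)} {z y : A} (k : Hy N z y) : star z = z := k.lz.1.star_eq k.zz

theorem Hy.symm {N : Subgroup (RingAut A)} {z y : A} (k : Hy N z y) (yy : y * y = 1) : Hy N y z :=
  ⟨k.ly, k.lz, yy, by rw [k.yz, neg_neg]⟩

/-- the same point -/
def Eqv (N : Subgroup (RingAut A)) (g g' : A) : Prop := ∃ x, Un x ∧ Nm N x ∧ g = g' * x

theorem Eqv.rfl {N : Subgroup (RingAut A)} {g : A} : Eqv N g g := ⟨1, Un.one, Nm.cen (Subring.one_mem _), (mul_one g).symm⟩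

theorem Eqv.mul {N : Subgroup (RingAut A)} {g g' x : A} (h : Eqv N g g') (h1 : Un x ∧ Nm N x) : Eqv N (g * x) g' := by
  obtain ⟨y, a1, a2, rfl⟩ := h
  exact ⟨y * x, a1.mul h1.1, a2.mul h1.2, mul_assoc _ _ _⟩

namespace Qz

variable {N : Subgroup (RingAut A)} {z a b h : A} (q : Qz N z a b) (hh : Hf h)
include q hh

theorem un_sg (hz : Un z) (zz : z * z = 1) : Un (sg h z a b) :=
  un_blk hh hz zz (q.z_oo hh) (q.z_soo hh) (q.un_oo hh) (q.un_oo hh).st

theorem star_sg (sz : star z = z) : star (sg h z a b) = blk h z (star (oo h a b)) (oo h a b) := by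
  rw [sg, star_blk hh sz (q.z_oo hh) (q.z_soo hh), star_star]

theorem z_sg : z * sg h z a b = sg h z a b * z := z_blk hh (q.z_oo hh) (q.z_soo hh)

theorem sg_mul (zz : z * z = 1) (P Q : A) :
    sg h z a b * blk h z P Q = blk h z (oo h a b * P) (star (oo h a b) * Q) :=
  blk_mul hh zz (q.z_oo hh) (q.z_soo hh) P Q

theorem sg_cube (zz : z * z = 1) : sg h z a b * (sg h z a b * sg h z a b) = -1 := by
  nth_rw 3 [sg]
  rw [q.sg_mul hh zz, q.sg_mul hh zz, q.oo_cube hh, q.soo_cube hh, blk_same hh]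

theorem y_sg {y : A} (k : Hy N z y) (q' : Qz N y a b) : y * sg h z a b = star (sg h z a b) * y := by
  rw [q.star_sg hh k.sz, sg, anti_blk hh k.yz, blk_mul_r, q'.z_oo hh, q'.z_soo hh]

theorem ssg_sq (hz : Un z) (zz : z * z = 1) : star (sg h z a b) * star (sg h z a b) = -sg h z a b := by
  have h1 := (q.un_sg hh hz zz).star_eq (b := -(sg h z a b * sg h z a b)) (by rw [mul_neg, q.sg_cube hh zz, neg_neg])
  rw [← star_mul, ← neg_neg (_ * _), ← h1, star_neg, star_star]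

theorem sg_neg (zz : z * z = 1) : sg h z (-a) b = sg h z a b * blk h z (-(a * b)) a := by
  rw [q.sg_mul hh zz, sg, q.oo_neg, star_mul, star_neg, q.sc, neg_neg, q.soo_a hh]

theorem sg_z (hz : Lf N z) (zz : z * z = 1) : sg h z (z * a) b = sg h z a b * blk h z 1 a := by
  have h1 : (1 + z) * oo h (z * a) b = (1 + z) * oo h a b := by
    rw [oo, oo, hh.out, hh.out (1 + z)]
    congr 1
    simp only [mul_add, add_mul, one_mul, mul_assoc, ← mul_assoc z z, zz]
    abel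
  have h2 : (1 - z) * oo h (z * a) b = (1 - z) * oo h (-a) b := by
    rw [oo, oo, hh.out, hh.out (1 - z)]
    congr 1
    simp only [mul_add, sub_mul, one_mul, mul_assoc, ← mul_assoc z z, zz, mul_neg, neg_mul]
    abel
  rw [q.sg_mul hh zz, sg, blk, blk, mul_one, h1, (q.zmul hz zz).star_oo hh, mul_sub, h2, ← mul_sub, ← q.neg.star_oo hh,
    q.oo_neg, star_mul, star_neg, q.sc, neg_neg, q.soo_a hh]

theorem sg_negz (zz : z * z = 1) : sg h (-z) a b = sg h z b a * blk h z (-b) a := by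
  rw [q.swap.sg_mul hh zz, sg, blk_negz, q.oo_swap hh, star_mul, star_star, q.sb, mul_assoc, mul_neg, q.bb, neg_neg,
    mul_one, mul_assoc, q.oo_a hh, ← mul_assoc, neg_mul, q.bb, neg_neg, one_mul]

theorem sg_a (zz : z * z = 1) : sg h z a b * a = blk h z b (a * b) * sg h z a b := by
  rw [sg, blk_mul hh zz q.zb q.rot.zb, blk_mul_r, q.oo_a hh, q.soo_a hh]

theorem sg_sg_a (zz : z * z = 1) : sg h z a b * sg h z a b * a = blk h z (a * b) b * (sg h z a b * sg h z a b) := by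
  rw [mul_assoc, q.sg_a hh zz, ← mul_assoc, ← mul_assoc, q.sg_mul hh zz, q.oo_b hh, q.soo_c hh, sg,
    blk_mul hh zz q.rot.zb q.zb]

theorem sg_five (zz : z * z = 1) : sg h z a b * (a * (sg h z a b * (a * sg h z a b))) = -(z * a) := by
  nth_rw 3 [sg]
  rw [mul_blk hh q.za, q.sg_mul hh zz, mul_blk hh q.za, q.sg_mul hh zz, ← mul_neg, ← blk_opp hh z]
  congr 1
  · rw [← mul_assoc, q.oo_a hh, ← mul_assoc _ a, q.oo_a hh, mul_assoc, mul_assoc, ← mul_assoc _ b, q.oo_b hh,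
      mul_assoc _ (oo h a b), q.oo_cube hh, mul_neg, mul_one, mul_neg, q.bab]
  · rw [← mul_assoc, q.soo_a hh, ← mul_assoc _ a, q.soo_a hh, mul_assoc, mul_assoc _ (star _), ← mul_assoc (star _) (a * b),
      q.soo_c hh, mul_assoc b, q.soo_cube hh, mul_neg, mul_one, mul_neg, mul_assoc, q.bb, mul_neg, mul_one]

end Qz

namespace EC

variable {F : FR A} {G H N : Subgroup (RingAut A)} {m p : ℕ} (E : EC F G H N m p 2)
include E

theorem exists_hf : ∃ h : A, Hf h := by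
  obtain ⟨h, h1, h2⟩ := E.exists_rho
  exact ⟨h, h1, by simpa using h2⟩

theorem pm {κ : A} (h1 : κ ∈ Subring.center A) (h2 : Un κ) (h3 : κ * κ = 1) : κ = 1 ∨ κ = -1 :=
  or_iff_not_imp_left.2 (SB.C2.sq_eq_neg E.σ.ss h1 h2 h3)

theorem ca {u v : A} (hu : Lf N u) (hv : Lf N v) : u * v = v * u ∨ u * v = -(v * u) := by
  obtain ⟨κ, h1, h2, h3, h4⟩ := E.σ.exists_kap hu hv
  rcases E.pm h1 h2 ((pow_two κ).symm.trans h3) with rfl | rfl
  · exact Or.inl (by rw [h4, one_mul])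
  · exact Or.inr (by rw [h4, neg_one_mul])

theorem anti {u v : A} (hu : Lf N u) (hv : Lf N v) (h : u * v ≠ v * u) : u * v = -(v * u) :=
  (E.ca hu hv).resolve_left h

theorem nm_tau {w : A} (hw : Lf N w) (h : w * w = -1) : Nm N (1 + w) := fun u hu => by
  rcases E.ca hw hu with e | e
  · exact ⟨u, hu, by rw [add_mul, mul_add, e, one_mul, mul_one]⟩
  · exact ⟨w * u, hw.mul hu, by
      rw [add_mul, mul_add, one_mul, mul_one, add_comm, mul_assoc, ← neg_neg (u * w), ← e, mul_neg, ← mul_assoc, h,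
        neg_one_mul, neg_neg]⟩

variable {h z y a b : A} (hh : Hf h)
include hh

theorem nm_blk₁ (hz : Lf N z) (zz : z * z = 1) {w : A} (hw : Lf N w) (ww : w * w = -1) (e : z * w = w * z) :
    Un (blk h z w 1) ∧ Nm N (blk h z w 1) := by
  refine ⟨un_blk hh hz.1 zz e (by rw [mul_one, one_mul]) hw.1 Un.one, ?_⟩
  have h1 : (1 + z) * w + (1 - z) * 1 = (1 + w) * (1 + z * w) := by
    simp only [add_mul, mul_add, mul_one, one_mul, ← mul_assoc w z, ← e, mul_assoc z w, ww, mul_neg]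
    abel
  rw [blk, h1]
  exact (Nm.cen hh.cen).mul ((E.nm_tau hw ww).mul (E.nm_tau (hz.mul hw) (by
    rw [mul_assoc, ← mul_assoc w, ← e, mul_assoc, ww, ← mul_assoc, zz, one_mul])))

theorem nm_blk₂ (hz : Lf N z) (zz : z * z = 1) {w : A} (hw : Lf N w) (ww : w * w = -1) (e : z * w = w * z) :
    Un (blk h z 1 w) ∧ Nm N (blk h z 1 w) := by
  rw [← blk_negz]
  exact E.nm_blk₁ hh hz.neg (by rw [neg_mul_neg, zz]) hw ww (by rw [neg_mul, mul_neg, e])

theorem nm_blk (hz : Lf N z) (zz : z * z = 1) (q : Qz N z a b) : Un (blk h z a b) ∧ Nm N (blk h z a b) := by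
  have h1 := E.nm_blk₁ hh hz zz q.la q.aa q.za
  have h2 := E.nm_blk₂ hh hz zz q.lb q.bb q.zb
  rw [← mul_one a, ← one_mul b, ← blk_mul hh zz q.za (by rw [mul_one, one_mul])]
  exact ⟨h1.1.mul h2.1, h1.2.mul h2.2⟩

/-- **test** -/
theorem test (k : Hy N z y) {P Q : A} (h1 : y * P = P * y) (h2 : y * Q = Q * y) (h3 : Lf N (blk h z P Q)) :
    Q = P ∨ Q = -P := by
  have h4 : y * blk h z P Q = blk h z Q P * y := by rw [anti_blk hh k.yz, blk_mul_r, h1, h2]
  refine (E.ca k.ly h3).imp (fun e => ?_) fun e => ?_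
  · have h5 := add_neg_eq_zero.2 (k.ly.1.cancel' (h4.symm.trans e))
    rw [blk_neg, blk_add, add_comm P, ← neg_neg (-Q + P), neg_add_rev, neg_neg, add_comm (-P), blk_opp hh,
      k.lz.1.isUnit.mul_right_eq_zero] at h5
    exact add_neg_eq_zero.1 h5
  · have h5 := add_eq_zero_iff_eq_neg.2 (k.ly.1.cancel' (h4.symm.trans (e.trans (neg_mul _ _).symm)))
    rw [blk_add, add_comm P, blk_same hh] at h5
    exact add_eq_zero_iff_eq_neg.1 h5

theorem sg_S (k : Hy N z y) (q : Qz N z a b) (q' : Qz N y a b) : ad (sg h z a b) ∈ F.S := by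
  have h0 : z * 1 = 1 * z := by rw [mul_one, one_mul]
  have h1 := E.σ.comm_mem (un_blk hh k.lz.1 k.zz (q.z_oo hh) h0 (q.un_oo hh) Un.one) k.ly.1
  rwa [star_blk hh k.sz (q.z_oo hh) h0, mul_assoc _ y, anti_blk hh k.yz, mul_assoc, q'.z_soo hh, star_one, mul_one,
    blk_mul_r h z y, mul_assoc, k.ly.1.ms, blk_mul hh k.zz (q.z_oo hh) h0, mul_one, mul_one, one_mul] at h1

theorem not_nm (k : Hy N z y) (q : Qz N z a b) (q' : Qz N y a b) : ¬ Nm N (sg h z a b * sg h z a b) := fun h1 => by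
  have := E.σ.ss.nontrivial
  obtain ⟨v, hv, e⟩ := h1 a q.la
  rw [← ((q.un_sg hh k.lz.1 k.zz).mul (q.un_sg hh k.lz.1 k.zz)).cancel' ((q.sg_sg_a hh k.zz).symm.trans e)] at hv
  exact q.rot.swap.ne_pm hh (E.test hh k q'.rot.zb q'.zb hv)

omit hh in
theorem nm_of_mem {x : A} (hx : Un x) (h1 : ad x ∈ H) : Nm N x := fun u hu =>
  ⟨_, E.lf_conj hx h1 hu, by rw [mul_assoc, hx.sm, mul_one]⟩

theorem cls (hz : Lf N z) (zz : z * z = 1) (q : Qz N z a b) {a' b' : A} (q' : Qz N z a' b') (ha : Tz z a b a')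
    (hb : Tz z a b b') : Eqv N (sg h z a' b') (sg h z a b) ∨ Eqv N (sg h z a' b') (sg h z b a) := by
  have := E.σ.ss.nontrivial
  refine q.ind hz zz (P := fun x y => Eqv N (sg h z x y) (sg h z a b) ∨ Eqv N (sg h z x y) (sg h z b a))
    (Or.inl Eqv.rfl) (Or.inr Eqv.rfl) (fun x y r h1 => ?_) (fun x y r h1 => ?_) (fun x y r h1 => ?_) (q'.ne_comm hh) ha hb
  · rwa [sg, r.oo_rot]
  · have h2 : Qz N z (-(x * y)) x := by
      have := r.rot.rot.neg
      rwa [r.bab] at this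
    rw [r.sg_neg hh zz]
    exact h1.imp (·.mul (E.nm_blk hh hz zz h2)) (·.mul (E.nm_blk hh hz zz h2))
  · rw [r.sg_z hh hz zz]
    exact h1.imp (·.mul (E.nm_blk₂ hh hz zz r.la r.aa r.za)) (·.mul (E.nm_blk₂ hh hz zz r.la r.aa r.za))

/-- **the near point** -/
theorem near (k : Hy N z y) {P : Subgroup (RingAut A)} (hP : P ≤ H) (h1 : ¬ 2 ∣ P.relIndex H)
    (h2 : ∀ γ ∈ P, γ * ad z = ad z * γ) {a₂ b₂ : A} (q : Qz N z a b) (q' : Qz N y a b) (r : Qz N z a₂ b₂)
    (r' : Qz N y a₂ b₂) (loc : ∀ a' b', Qz N z a' b' → (Tz z a b a' ∧ Tz z a b b') ∨ (Tz z a₂ b₂ a' ∧ Tz z a₂ b₂ b')) :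
    ¬ 8 ∣ Nat.card H / m := by
  classical
  have hu := q.un_sg hh k.lz.1 k.zz
  refine not_eight (C := H ⊓ Subgroup.centralizer {ad z}) E.c.in (E.c.S_le (E.sg_S hh k q q'))
    (fun h3 => E.not_nm hh k q q' ((E.nm_of_mem hu h3).mul (E.nm_of_mem hu h3))) inf_le_left
    (fun γ hγ => ⟨hP hγ, Subgroup.mem_centralizer_singleton_iff.2 (h2 γ hγ)⟩) h1
    ((relIndex_le inf_le_left {ad (sg h z a b), ad (sg h z b a), ad (sg h z a₂ b₂), ad (sg h z b₂ a₂)}
      fun γ hγ => ?_).trans Finset.card_le_four)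
  have hS := FR.conj_mem_S (E.c.H_le_Aut hγ.1) (E.sg_S hh k q q')
  have hs := E.c.le_SAut hγ.1
  have hu' := hu.map hs
  rw [conj_ad γ hu] at hS ⊢
  rw [map_sg hh hs] at hS hu' ⊢
  have pt : ∀ {x y' : A}, Qz N z x y' → Qz N y x y' → Eqv N (sg h (γ z) (γ a) (γ b)) (sg h z x y') →
      (ad (sg h z x y'))⁻¹ * ad (sg h (γ z) (γ a) (γ b)) ∈ H := fun {x y'} s s' ⟨t, t1, t2, t3⟩ => by
    have h4 := F.S.mul_mem (F.S.inv_mem (E.sg_S hh k s s')) hS
    rw [t3, ad_mul (s.un_sg hh k.lz.1 k.zz) t1, inv_mul_cancel_left] at h4 ⊢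
    exact E.mem_H t1 h4 t2
  have h3 : Qz N (γ z) (γ a) (γ b) := ⟨E.lf_map hγ.1 q.la, E.lf_map hγ.1 q.lb, by rw [← map_mul, q.aa, map_neg, map_one],
    by rw [← map_mul, q.bb, map_neg, map_one], by rw [← map_mul, q.ba, map_neg, map_mul], by
    rw [← map_mul, q.za, map_mul], by rw [← map_mul, q.zb, map_mul]⟩
  have h4 : ∃ a' b', Qz N z a' b' ∧ ∀ t, Eqv N (sg h z a' b') t → Eqv N (sg h (γ z) (γ a) (γ b)) t := by
    obtain ⟨κ, c1, c2, c3⟩ := (ad_eq_iff (k.lz.1.map hs) k.lz.1).1 (by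
      rw [← conj_ad γ k.lz.1, Subgroup.mem_centralizer_singleton_iff.1 hγ.2, mul_inv_cancel_right])
    rcases E.pm c1 c2 (by
      have := congrArg γ k.zz
      rwa [map_mul, map_one, c3, cen_mul_mul c1, k.zz, mul_one] at this) with rfl | rfl
    · rw [c3, one_mul] at h3 ⊢
      exact ⟨_, _, h3, fun _ h => h⟩
    · rw [c3, neg_one_mul] at h3 ⊢
      have h4 := h3.negz
      rw [neg_neg] at h4
      refine ⟨_, _, h4.swap, fun t h => ?_⟩
      rw [h4.sg_negz hh k.zz]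
      exact h.mul (E.nm_blk hh k.lz k.zz h4.swap.neg)
  obtain ⟨a', b', c1, c2⟩ := h4
  simp only [Finset.mem_insert, Finset.mem_singleton, exists_eq_or_imp, exists_eq_left]
  rcases loc a' b' c1 with ⟨d1, d2⟩ | ⟨d1, d2⟩
  · exact (E.cls hh k.lz k.zz q c1 d1 d2).elim (fun e => Or.inl (pt q q' (c2 _ e)))
      fun e => Or.inr (Or.inl (pt q.swap q'.swap (c2 _ e)))
  · exact Or.inr (Or.inr ((E.cls hh k.lz k.zz r c1 d1 d2).imp (fun e => pt r r' (c2 _ e))
      fun e => pt r.swap r'.swap (c2 _ e)))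

theorem far₀ {g ν : A} (hg : Un g) (hν : Un ν) (h1 : ad ν ∈ TH.cj (ad g) H) : ad (star g * ν * g) ∈ H := by
  rw [ad_mul (hg.st.mul hν) hg, ad_mul hg.st hν, ad_star hg]
  exact mem_cj.1 h1

theorem far₁ (k : Hy N z y) (yy : y * y = 1) (q : Qz N z a b) (q' : Qz N y a b) :
    ad a ∉ TH.cj (ad (sg h z a b * sg h y a b)) H ∧ ad z * ad a ∉ TH.cj (ad (sg h z a b * sg h y a b)) H := by
  have k' := k.symm yy
  have u1 := q.un_sg hh k.lz.1 k.zz
  have u2 := q'.un_sg hh k.ly.1 yy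
  have h1 : sg h z a b * sg h y a b * y * star (sg h z a b * sg h y a b) = -(y * sg h z a b) := by
    rw [star_mul, mul_assoc _ _ y, ← q'.z_sg hh, mul_assoc, mul_assoc, ← mul_assoc (sg h y a b), u2.ms, one_mul]
    refine u1.st.cancel ?_
    rw [← mul_assoc, u1.sm, one_mul, mul_neg, q.y_sg hh k q', ← mul_assoc, q.ssg_sq hh k.lz.1 k.zz, neg_mul, neg_neg]
    refine u1.cancel' ?_
    rw [mul_assoc, u1.sm, mul_one, mul_assoc, q.y_sg hh k q', ← mul_assoc, u1.ms, one_mul]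
  have h2 : star (sg h z a b * sg h y a b) * (y * (a * (sg h z a b * a))) * (sg h z a b * sg h y a b) =
      -(y * (z * (sg h y a b * a * sg h y a b))) := by
    have h3 : y * star (sg h y a b) = star (sg h y a b) * y := (star_comm_of (k.ly.1.star_eq yy) (q'.z_sg hh).symm).symm
    rw [star_mul, mul_assoc (star _), ← mul_assoc (star _) y, ← q.y_sg hh k q', ← mul_assoc _ (sg h z a b)]
    simp only [mul_assoc]
    rw [← mul_assoc (star _), ← h3, ← mul_assoc a (sg h z a b) (sg h y a b), ← mul_assoc (sg h z a b) (a * _),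
      ← mul_assoc a (_ * _), ← mul_assoc (sg h z a b) (a * _), q.sg_five hh k.zz, neg_mul, mul_assoc, mul_neg, mul_neg,
      mul_assoc z, ← mul_assoc (star _), ← q'.y_sg hh k' q, mul_assoc]
  have h3 : ∀ {ν}, Un ν → ad ν ∈ TH.cj (ad (sg h z a b * sg h y a b)) H → ∀ s, s * s = 1 → s ∈ Subring.center A → Un s →
      ν * -(y * sg h z a b) * star ν ≠ s * (y * (a * (sg h z a b * a))) := fun {ν} hν c1 s c2 c3 c4 c5 => by
    have h4 := E.lf_conj (((u1.mul u2).st.mul hν).mul (u1.mul u2)) (E.far₀ hh (u1.mul u2) hν c1) k.ly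
    rw [← h1] at c5
    generalize sg h z a b * sg h y a b = g at h2 h4 c5
    have h5 : star g * ν * g * y * star (star g * ν * g) = star g * (ν * (g * y * star g) * star ν) * g := by
      simp only [star_mul, star_star, mul_assoc]
    rw [h5, c5, ← mul_assoc (star g), cen_comm c3, mul_assoc s, mul_assoc s, h2] at h4
    have h6 := k.lz.mul (k.ly.mul ((Lf.cen c3 c4).mul h4).neg)
    rw [← mul_assoc s, c2, one_mul, neg_neg, ← mul_assoc y, yy, one_mul, ← mul_assoc z, k.zz, one_mul,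
      q'.sg_a hh yy, mul_assoc] at h6
    have h7 := (E.nm_blk hh k.ly yy q'.rot.neg.swap.neg.swap).2.mul (E.σ.nm_lf h6)
    rw [← mul_assoc, blk_mul hh yy q'.rot.neg.za q'.rot.swap.neg.za, neg_mul, neg_mul, q.bb, q.rot.bb, blk_same hh,
      neg_neg, one_mul] at h7
    exact E.not_nm hh k' q' q h7
  have h4 : a * -(y * sg h z a b) * star a = y * (a * (sg h z a b * a)) := by
    rw [q.sa, mul_neg, mul_neg, neg_mul, neg_neg, ← mul_assoc a, ← q'.za, mul_assoc, mul_assoc]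
  refine ⟨fun c => h3 q.la.1 c 1 (one_mul 1) (Subring.one_mem _) Un.one (by rw [h4, one_mul]), fun c => ?_⟩
  rw [← ad_mul k.lz.1 q.la.1] at c
  refine h3 (k.lz.1.mul q.la.1) c (-1) (by simp) (Subring.neg_mem _ (Subring.one_mem _)) Un.one.neg ?_
  rw [star_mul, mul_assoc z, mul_assoc z, ← mul_assoc _ (star a), h4, k.sz, mul_assoc y, mul_assoc a, mul_assoc _ a,
    ← q.za, ← mul_assoc _ z, ← q.z_sg hh, mul_assoc z, ← mul_assoc a, ← q.za, mul_assoc z, ← mul_assoc y, k.yz, neg_mul,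
    mul_neg, mul_assoc, ← mul_assoc z, k.zz, one_mul, neg_one_mul]

/-- **the far point** -/
theorem far (k : Hy N z y) (yy : y * y = 1) (q : Qz N z a b) (q' : Qz N y a b) : 8 ∣ Nat.card H / m := by
  have k' := k.symm yy
  have u1 := q.un_sg hh k.lz.1 k.zz
  have u2 := q'.un_sg hh k.ly.1 yy
  have hg := F.S.mul_mem (E.sg_S hh k q q') (E.sg_S hh k' q' q)
  rw [← ad_mul u1 u2] at hg
  have h2 := E.far₁ hh k yy q q'
  have h3 := E.far₁ hh k yy q.rot q'.rot
  have h4 := E.far₁ hh k yy q.rot.rot q'.rot.rot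
  rw [sg, sg, q.rot.oo_rot, q.oo_rot, ad_mul q.la.1 q.lb.1] at h4
  rw [sg, sg, q.oo_rot] at h3
  refine (eight_dvd E.σ.comm E.σ.exp k.lz.2 q.la.2 q.lb.2 (fun h5 => E.not_nm hh k' q' q ?_) h2.1 h3.1 h4.1 h2.2 h3.2
    h4.2).trans (E.c.in.relIndex_dvd_d₂ E.le E.min.nrm le_rfl (fun a ha => E.min.nrm a (E.le ha)) (E.c.S_le hg))
  have h6 := (E.σ.nm_lf k.lz).mul (E.nm_of_mem (((u1.mul u2).st.mul k.lz.1).mul (u1.mul u2))
    (E.far₀ hh (u1.mul u2) k.lz.1 h5))
  rwa [star_mul, mul_assoc, mul_assoc, ← mul_assoc z (sg h z a b), q.z_sg hh, mul_assoc, ← mul_assoc (star _) (sg h z a b),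
    u1.sm, one_mul, ← mul_assoc (star _), ← q'.y_sg hh k' q, mul_assoc, ← mul_assoc, k.zz, one_mul] at h6

end EC

end Cfsg.Agent.TH.Cl.Ext
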