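import Cfsg.Agent.TH.Cl.Ext.TwoB

/-!
# S3541, box `Ext`, `r = 2`: normal forms, the large case, the enumeration of quaternion pairs (helper58)
-/

set_option autoImplicit false
set_option linter.unusedSectionVars false

namespace Cfsg.Agent.TH.Cl.Ext

open Cfsg.Agent.DS.Cl Cfsg.Agent.DS.Cl.Fwd Cfsg.Agent.SB.Cl

variable {A : Type} [Ring A] [StarRing A] [Finite A]

/-- no central isometry of order four -/
def NoI (A : Type) [Ring A] [StarRing A] : Prop := ∀ c ∈ Subring.center A, Un c → c * c ≠ -1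

/-- `1, u, v, u v` -/
def T1 (u v t : A) : Prop := t = 1 ∨ t = u ∨ t = v ∨ t = u * v

theorem T1.lf {N : Subgroup (RingAut A)} {u v t : A} (h : T1 u v t) (hu : Lf N u) (hv : Lf N v) : Lf N t := by
  rcases h with rfl | rfl | rfl | rfl
  exacts [Lf.one, hu, hv, hu.mul hv]

theorem T1.comm {u v t x : A} (h : T1 u v t) (h1 : Commute x u) (h2 : Commute x v) : Commute x t := by
  rcases h with rfl | rfl | rfl | rfl
  exacts [Commute.one_right x, h1, h2, h1.mul_right h2]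

theorem T1.sq {N : Subgroup (RingAut A)} {z u v t : A} (h : T1 u v t) (q : Qz N z u v) (h1 : t ≠ 1) : t * t = -1 := by
  rcases h with rfl | rfl | rfl | rfl
  exacts [absurd rfl h1, q.aa, q.bb, q.rot.bb]

theorem cm_of_ad {u v x : A} (hu : Un u) (hv : Un v) (e : ad v = ad u) (h : Commute x u) : Commute x v :=
  ((ad_fix hv).1 (e ▸ (ad_fix hu).2 h.symm)).symm

theorem Un.cm {u w x : A} (hu : Un u) (h1 : Commute x u) (h2 : Commute x (u * w)) : Commute x w :=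
  hu.cancel (by rw [← mul_assoc, ← h1.eq, mul_assoc, h2.eq, mul_assoc])

theorem Tz.lift {z a b s w : A} (zz : z * z = 1) (hs : s = 1 ∨ s = z) (h : Tz 1 a b (s * w)) : Tz z a b w := by
  obtain ⟨t, ht, h⟩ := h
  have h1 : w = s * (s * w) := by rcases hs with rfl | rfl <;> simp [← mul_assoc, zz]
  refine ⟨s * t, ?_, by simpa only [mul_assoc, ← h1] using h.imp (congrArg (s * ·)) (Or.imp (congrArg (s * ·))
    (congrArg (s * ·)))⟩
  rcases hs with rfl | rfl <;> rcases ht with rfl | rfl | rfl | rfl <;> simp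

theorem Tz.cross {N : Subgroup (RingAut A)} {z a b a₂ b₂ x y : A} (r : Qz N z a₂ b₂) (h1 : Commute a₂ a)
    (h2 : Commute a₂ b) (h3 : Commute b₂ a) (h4 : Commute b₂ b) (hx : Tz z a b x) (hy : Tz z a₂ b₂ y) (h : z * x = x * z) :
    x * y = y * x :=
  hy.comm h.symm (hx.comm r.za.symm h1 h2).symm (hx.comm r.zb.symm h3 h4).symm

theorem Hy.qz {N : Subgroup (RingAut A)} {z y z' y' : A} (k : Hy N z y) (yy : y * y = 1) (k' : Hy N z' y')
    (yy' : y' * y' = 1) (h1 : Commute z z') (h2 : Commute z y') (h3 : Commute y z') (h4 : Commute y y') :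
    Qz N 1 (z * y) (z * (z' * y')) := by
  have a1 : ∀ {z y : A}, Hy N z y → y * y = 1 → z * y * (z * y) = -1 := fun {z y} k yy => by
    rw [mul_assoc, ← mul_assoc y, k.yz, neg_mul, mul_assoc, yy, mul_one, mul_neg, k.zz]
  refine ⟨k.lz.mul k.ly, k.lz.mul (k'.lz.mul k'.ly), a1 k yy, ?_, ?_, by rw [mul_one, one_mul], by rw [mul_one, one_mul]⟩
  · rw [(h1.mul_right h2).symm.mul_mul_mul_comm, k.zz, a1 k' yy', one_mul]
  · rw [mul_assoc, ((h1.mul_right h2).symm.mul_right (h3.mul_right h4).symm).eq, mul_assoc z y, mul_assoc z y,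
      ← mul_assoc y z, k.yz, neg_mul, mul_neg, neg_neg, mul_assoc z y]

namespace EC

variable {F : FR A} {G H N : Subgroup (RingAut A)} {m p : ℕ} (E : EC F G H N m p 2)
include E

open DS.Cl.Ext in
theorem norm {u : A} (hu : Lf N u) : ∃ v, Lf N v ∧ ad v = ad u ∧ (v * v = 1 ∨ v * v = -1) := by
  have h0 : ∀ c ∈ Subring.center A, Un c → Lf N (c * u) ∧ ad (c * u) = ad u := fun c h1 h2 =>
    ⟨(Lf.cen h1 h2).mul hu, by rw [ad_mul h2 hu.1, ad_cen h1, one_mul]⟩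
  rcases E.root with h | ⟨-, h⟩
  · obtain ⟨c, h1, h2, h3⟩ := h u hu
    exact ⟨_, (h0 c h1 h2).1, (h0 c h1 h2).2, Or.inl ((pow_two _).symm.trans h3)⟩
  · have h1 := E.σ.pow_cen hu
    have h2 := hu.pow 2
    let c : Uh F N := ⟨⟨mkU _ h2.1, by
      change DS.Cl.cj A _ ∈ N
      rw [← ad_val]
      exact h2.2, E.σ.mem_Iso h2.1⟩, h1⟩
    have h3 : (u ^ 2) ^ Nat.card (Uh F N) = 1 :=
      congrArg (fun x : Uh F N => (((x : Nh F N) : Aˣ) : A)) (pow_card_eq_one' (x := c))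
    obtain ⟨j, hj⟩ : ∃ j, Nat.card (Uh F N) ∣ (2 * j + 1) * 2 := by
      generalize Nat.card (Uh F N) = n at h
      rcases Nat.even_or_odd' n with ⟨k, rfl | rfl⟩
      · exact ⟨k / 2, Dvd.intro 1 (by omega)⟩
      · exact ⟨k, dvd_mul_right _ _⟩
    have h4 : (u ^ 2) ^ j * u * ((u ^ 2) ^ j * u) = (u ^ 2) ^ (2 * j + 1) := by
      simp only [← pow_mul, ← pow_succ, ← pow_add]
      congr 1
      omega
    refine ⟨_, (h0 _ (Subring.pow_mem _ h1 j) (h2.1.pow j)).1, (h0 _ (Subring.pow_mem _ h1 j) (h2.1.pow j)).2, ?_⟩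
    rw [h4]
    exact E.pm (Subring.pow_mem _ h1 _) (h2.1.pow _) (by
      obtain ⟨k, hk⟩ := hj
      rw [← pow_two, ← pow_mul, hk, pow_mul, h3, one_pow])

theorem norm_i (hi : ¬ NoI A) {u : A} (hu : Lf N u) :
    (∃ v, Lf N v ∧ ad v = ad u ∧ v * v = 1) ∧ ∃ v, Lf N v ∧ ad v = ad u ∧ v * v = -1 := by
  obtain ⟨v, h1, h2, h3⟩ := E.norm hu
  rw [NoI] at hi
  push Not at hi
  obtain ⟨c, c1, c2, c3⟩ := hi
  have h4 := (Lf.cen c1 c2).mul h1
  have h5 : ad (c * v) = ad u := by rw [ad_mul c2 h1.1, ad_cen c1, one_mul, h2]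
  have h6 : c * v * (c * v) = -(v * v) := by rw [cen_mul_mul c1, c3, neg_one_mul]
  rcases h3 with h3 | h3
  · exact ⟨⟨v, h1, h2, h3⟩, _, h4, h5, by rw [h6, h3]⟩
  · exact ⟨⟨_, h4, h5, by rw [h6, h3, neg_neg]⟩, v, h1, h2, h3⟩

theorem exists_hy {z s : A} (hz : Lf N z) (zz : z * z = 1) (hs : Lf N s) (h : ¬ Commute s z) :
    ∃ y, Hy N z y ∧ y * y = 1 ∧ ∀ x, Commute x z → Commute x s → Commute x y := by
  obtain ⟨v, h1, h2, h3⟩ := E.norm hs
  have h4 := E.anti h1 hz fun e => h (cm_of_ad h1.1 hs.1 h2.symm (Eq.symm e)).symm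
  rcases h3 with h3 | h3
  · exact ⟨v, ⟨hz, h1, zz, h4⟩, h3, fun x _ c => cm_of_ad hs.1 h1.1 h2 c⟩
  · exact ⟨z * v, ⟨hz, hz.mul h1, zz, by rw [mul_assoc, h4, mul_neg]⟩, by
      rw [mul_assoc, ← mul_assoc v, h4, neg_mul, mul_assoc, h3, mul_neg, mul_neg, mul_neg, neg_neg, mul_one, zz],
      fun x c c' => c.mul_right (cm_of_ad hs.1 h1.1 h2 c')⟩

theorem pair {u v : A} (hu : Lf N u) (hv : Lf N v) (h : ¬ Commute v u) :
    ∃ a b, (Qz N 1 a b ∨ Hy N a b ∧ b * b = 1) ∧ ∀ x, Commute x u → Commute x v → Commute x a ∧ Commute x b := by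
  obtain ⟨a, a1, a2, a3⟩ := E.norm hu
  obtain ⟨b, b1, b2, b3⟩ := E.norm hv
  have h1 : ¬ Commute b a := fun e => h (cm_of_ad a1.1 hu.1 a2.symm (cm_of_ad b1.1 hv.1 b2.symm e.symm).symm)
  have h2 : ∀ x, Commute x u → Commute x v → Commute x a ∧ Commute x b := fun x c c' =>
    ⟨cm_of_ad hu.1 a1.1 a2 c, cm_of_ad hv.1 b1.1 b2 c'⟩
  rcases a3 with a3 | a3
  · obtain ⟨y, c1, c2, c3⟩ := E.exists_hy a1 a3 b1 h1
    exact ⟨a, y, Or.inr ⟨c1, c2⟩, fun x c c' => ⟨(h2 x c c').1, c3 x (h2 x c c').1 (h2 x c c').2⟩⟩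
  rcases b3 with b3 | b3
  · obtain ⟨y, c1, c2, c3⟩ := E.exists_hy b1 b3 a1 fun e => h1 e.symm
    exact ⟨b, y, Or.inr ⟨c1, c2⟩, fun x c c' => ⟨(h2 x c c').2, c3 x (h2 x c c').2 (h2 x c c').1⟩⟩
  · exact ⟨a, b, Or.inl ⟨a1, b1, a3, b3, E.anti b1 a1 h1, by rw [mul_one, one_mul], by rw [mul_one, one_mul]⟩, h2⟩

theorem split' {u v w : A} (hu : Lf N u) (hv : Lf N v) (h : u * v ≠ v * u) (hw : Lf N w) :
    ∃ t, T1 u v t ∧ Commute u (t * w) ∧ Commute v (t * w) := by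
  obtain ⟨i, hi, j, hj, h1, h2⟩ := E.split hu hv h hw
  refine ⟨_, ?_, h1, h2⟩
  interval_cases i <;> interval_cases j <;> simp [T1]

theorem partner₂ {z y a b u : A} (hz : Lf N z) (hy : Lf N y) (h : z * y ≠ y * z) (ha : Lf N a) (hb : Lf N b)
    (h' : a * b ≠ b * a) (c1 : Commute z a) (c2 : Commute z b) (c3 : Commute y a) (c4 : Commute y b)
    (h0 : u ∉ Subring.center A) (d1 : Commute z u) (d2 : Commute y u) (d3 : Commute a u) (d4 : Commute b u) :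
    ∃ v, Lf N v ∧ ¬ Commute v u ∧ Commute z v ∧ Commute y v ∧ Commute a v ∧ Commute b v := by
  obtain ⟨s, e1, e2, e3, e4⟩ := E.exists_partner hz hy h h0 d1 d2
  obtain ⟨t, f1, f2, f3⟩ := E.split' ha hb h' e1
  exact ⟨t * s, (f1.lf ha hb).mul e1, fun e => e2 ((f1.lf ha hb).1.cm (f1.comm d3.symm d4.symm) e.symm).symm,
    (f1.comm c1 c2).mul_right e3, (f1.comm c3 c4).mul_right e4, f2, f3⟩

theorem fin₁ {z a b t w : A} (q : Qz N z a b) (ht : T1 a b t) (hw : Un w) (ww : w * w = -1)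
    (h0 : w ∉ Subring.center A) (h : t * w ∈ Subring.center A) : Tz 1 a b w := by
  have h1 : t ≠ 1 := fun e => h0 (by rwa [e, one_mul] at h)
  have h2 := ht.sq q h1
  have h3 : w = -(t * w) * t := by rw [neg_mul, ← cen_comm h, ← mul_assoc, h2, neg_one_mul, neg_neg]
  have h4 := E.pm (Subring.neg_mem _ h) ((ht.lf q.la q.lb).1.mul hw).neg (by
    rw [h3, cen_mul_mul (Subring.neg_mem _ h), h2, mul_neg, mul_one, neg_inj] at ww
    exact ww)
  generalize -(t * w) = κ at h3 h4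
  refine ⟨κ, h4.imp_right Or.inl, ?_⟩
  rcases ht with rfl | rfl | rfl | rfl
  exacts [absurd rfl h1, Or.inl h3, Or.inr (Or.inl h3), Or.inr (Or.inr h3)]

theorem strip {z y a' b' : A} (k : Hy N z y) (q : Qz N z a' b') : ∃ s, (s = 1 ∨ s = z) ∧ Lf N (s * a') ∧
    s * a' * (s * a') = -1 ∧ s * a' ∉ Subring.center A ∧ Commute z (s * a') ∧ Commute y (s * a') := by
  obtain ⟨h, hh⟩ := E.exists_hf
  have := E.σ.ss.nontrivial
  have h1 : ∀ {a}, Qz N z a b' → a ∉ Subring.center A := fun q h => q.ne_comm hh (cen_comm h _).symm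
  rcases E.ca k.ly q.la with e | e
  · exact ⟨1, Or.inl rfl, by simpa only [one_mul] using ⟨q.la, q.aa, h1 q, q.za, e⟩⟩
  · have q' := q.zmul k.lz k.zz
    exact ⟨z, Or.inr rfl, q'.la, q'.aa, h1 q', q'.za, by
      rw [Commute, SemiconjBy, ← mul_assoc, k.yz, neg_mul, mul_assoc, e, mul_neg, neg_neg, mul_assoc]⟩

theorem enum₁ {z y a b a' b' : A} (k : Hy N z y) (q : Qz N z a b) (q' : Qz N y a b)
    (hc : ∀ w, Lf N w → Commute z w → Commute y w → Commute a w → Commute b w → w ∈ Subring.center A)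
    (r : Qz N z a' b') : Tz z a b a' := by
  obtain ⟨h, hh⟩ := E.exists_hf
  have := E.σ.ss.nontrivial
  obtain ⟨s, a1, a2, a3, a4, a5, a6⟩ := E.strip k r
  obtain ⟨t, b1, b2, b3⟩ := E.split' q.la q.lb (q.ne_comm hh) a2
  exact (E.fin₁ q b1 a2.1 a3 a4 (hc _ ((b1.lf q.la q.lb).mul a2) ((b1.comm q.za q.zb).mul_right a5)
    ((b1.comm q'.za q'.zb).mul_right a6) b2 b3)).lift k.zz a1

section

variable {z y a b a₂ b₂ : A} (q : Qz N z a b) (q' : Qz N y a b) (r : Qz N z a₂ b₂) (r' : Qz N y a₂ b₂)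
  (h1 : Commute a₂ a) (h2 : Commute a₂ b) (h3 : Commute b₂ a) (h4 : Commute b₂ b)
  (hc : ∀ w, Lf N w → Commute z w → Commute y w → Commute a w → Commute b w → Commute a₂ w → Commute b₂ w →
    w ∈ Subring.center A)
include q q' r r' h1 h2 h3 h4 hc

theorem dec₂ {w : A} (hw : Lf N w) (c1 : Commute z w) (c2 : Commute y w) :
    ∃ t t', T1 a b t ∧ T1 a₂ b₂ t' ∧ t' * (t * w) ∈ Subring.center A := by
  obtain ⟨h, hh⟩ := E.exists_hf
  have := E.σ.ss.nontrivial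
  obtain ⟨t, b1, b2, b3⟩ := E.split' q.la q.lb (q.ne_comm hh) hw
  obtain ⟨t', d1, d2, d3⟩ := E.split' r.la r.lb (r.ne_comm hh) ((b1.lf q.la q.lb).mul hw)
  exact ⟨t, t', b1, d1, hc _ ((d1.lf r.la r.lb).mul ((b1.lf q.la q.lb).mul hw))
    ((d1.comm r.za r.zb).mul_right ((b1.comm q.za q.zb).mul_right c1))
    ((d1.comm r'.za r'.zb).mul_right ((b1.comm q'.za q'.zb).mul_right c2)) ((d1.comm h1.symm h3.symm).mul_right b2)
    ((d1.comm h2.symm h4.symm).mul_right b3) d2 d3⟩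

theorem fin₂ (hi : NoI A) {w : A} (hw : Lf N w) (ww : w * w = -1) (h0 : w ∉ Subring.center A) (c1 : Commute z w)
    (c2 : Commute y w) : Tz 1 a b w ∨ Tz 1 a₂ b₂ w := by
  obtain ⟨t, t', b1, d1, e⟩ := E.dec₂ q q' r r' h1 h2 h3 h4 hc hw c1 c2
  by_cases f1 : t' = 1
  · exact Or.inl (E.fin₁ q b1 hw.1 ww h0 (by rwa [f1, one_mul] at e))
  by_cases f2 : t = 1
  · exact Or.inr (E.fin₁ r d1 hw.1 ww h0 (by rwa [f2, one_mul] at e))
  have u1 := (b1.lf q.la q.lb).1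
  have u2 := (d1.lf r.la r.lb).1
  have g1 : Commute t t' := d1.comm (b1.comm h1 h2).symm (b1.comm h3 h4).symm
  have g2 : Commute t' (t * w) := u2.cm (Commute.refl _) (cen_comm e _)
  have g3 : Commute t w := u1.cm (Commute.refl _) (u2.cm g1 (cen_comm e _))
  refine absurd ?_ (hi _ e (u2.mul (u1.mul hw.1)))
  rw [g2.symm.mul_mul_mul_comm, g3.symm.mul_mul_mul_comm, d1.sq r f1, b1.sq q f2, ww]
  simp

theorem enum₂ (k : Hy N z y) (hi : NoI A) (a' b' : A) (s : Qz N z a' b') :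
    (Tz z a b a' ∧ Tz z a b b') ∨ (Tz z a₂ b₂ a' ∧ Tz z a₂ b₂ b') := by
  obtain ⟨h, hh⟩ := E.exists_hf
  have := E.σ.ss.nontrivial
  have e : ∀ {a' b'}, Qz N z a' b' → Tz z a b a' ∨ Tz z a₂ b₂ a' := fun s => by
    obtain ⟨t, a1, a2, a3, a4, a5, a6⟩ := E.strip k s
    exact (E.fin₂ q q' r r' h1 h2 h3 h4 hc hi a2 a3 a4 a5 a6).imp (·.lift k.zz a1) (·.lift k.zz a1)
  rcases e s with e1 | e1 <;> rcases e s.swap with e2 | e2
  · exact Or.inl ⟨e1, e2⟩
  · exact absurd (e1.cross r h1 h2 h3 h4 e2 s.za) (s.ne_comm hh)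
  · exact absurd (e2.cross r h1 h2 h3 h4 e1 s.zb) (s.swap.ne_comm hh)
  · exact Or.inr ⟨e1, e2⟩

end

/-- **the large case** -/
theorem big {z y a b u : A} (k : Hy N z y) (q : Qz N z a b) (hu : Lf N u) (uu : u * u = 1) (c1 : Commute z u)
    (c2 : Commute y u) (c3 : Commute a u) (c4 : Commute b u) : u ∈ Subring.center A := by
  by_contra h0
  obtain ⟨h, hh⟩ := E.exists_hf
  have := E.σ.ss.nontrivial
  have n1 : (-1 : A) ≠ 1 := fun e => one_ne_zero (hh.eq_zero e.symm)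
  have n2 : (-1 : A) ∈ Subring.center A := Subring.neg_mem _ (Subring.one_mem _)
  obtain ⟨s, e1, e2, e3, -⟩ := E.exists_partner k.lz k.ly (fun e =>
    (k.lz.mul k.ly).1.isUnit.ne_zero (hh.eq_zero (e.trans k.yz))) h0 c1 c2
  obtain ⟨e, hf, h1⟩ : ∃ e : Fin 2 × Fin 2 → A, Fm e ∧ ∀ {x}, Commute x z → Commute x u → Commute x (e 0) :=
    ⟨_, E.fm_two (ρ := h) (ζ := -1) (ζ' := -1) hh.cen (by simpa using hh.two) Un.one.neg (by simp) n1
      ⟨n2, by rw [k.yz, neg_one_mul]⟩ Un.one.neg (by simp) n1 ⟨n2, by rw [E.anti e1 hu e2, neg_one_mul]⟩ k.lz.1 hu.1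
      k.ly.1 e1.1 ((pow_two z).trans k.zz) ((pow_two u).trans uu) c1 c2 e3.symm, fun {x} d1 d2 =>
      Commute.mul_right (comm_pr hh.cen (by simpa using d1.eq)) (comm_pr hh.cen (by simpa using d2.eq))⟩
  have ha := h1 q.za.symm c3
  have hb := h1 q.zb.symm c4
  have hc := (ha.mul_left hb).eq
  have ho := (q.comm_oo hh ha.symm hb.symm).symm
  have i0 := hf.idem 0
  have s0 := hf.symm 0
  have hS := E.σ.comm_mem (un_hm i0 s0 ho (q.un_oo hh)) (un_hm i0 s0 ha q.la.1)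
  rw [star_hm s0 ho, star_hm s0 ha, hm_mul i0 ha, hm_mul i0 (star_comm_of s0 ho), hm_mul i0 (star_comm_of s0 ha),
    q.oo_a hh, mul_assoc b, (q.un_oo hh).ms, mul_one, q.sa, mul_neg, q.ba, neg_neg] at hS
  have h2 : (a * b) ^ 2 = -1 := (pow_two _).trans q.rot.bb
  have h3 := E.bound_four hf (un_hm i0 s0 hc q.rot.lb.1) hS (by
      rw [hm_pow i0 hc, show 4 = 2 * 2 from rfl, pow_mul, h2, neg_one_sq, hm_one]) (fun h3 => by
      rw [hm_pow i0 hc, h2] at h3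
      have h4 := sub_eq_zero.1 (hf.eq_zero (Subring.sub_mem _ h3 (Subring.one_mem _)) (i := 1) (by
        rw [sub_mul, hm_mul_orth (hf.orth _ _ (by decide)), one_mul, sub_self]))
      have h5 := hm_mul_self (a := -1) i0
      rw [h4, neg_one_mul] at h5
      exact one_ne_zero (hf.eq_zero (Subring.one_mem _) (i := 0) (by rw [hh.eq_zero ((one_mul _).symm.trans h5), mul_zero])))
    ((Finset.univ.erase 0) ×ˢ (Finset.univ.erase 0)) (fun r hr => ⟨1, Subring.one_mem _, by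
      rw [hm_mul_orth (hf.orth _ _ (Finset.ne_of_mem_erase (Finset.mem_product.1 hr).1).symm), one_mul], by
      rw [orth_mul_hm (hf.orth _ _ (Finset.ne_of_mem_erase (Finset.mem_product.1 hr).2)) hc, one_mul]⟩) 0
  simp at h3

end EC

end Cfsg.Agent.TH.Cl.Ext
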