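import Cfsg.Agent.TH.Cl.Ext.TwoA

/-!
# S3541, box `Ext`, `r = 2`: group lemmas (helper58)
-/

set_option autoImplicit false
set_option linter.unusedSectionVars false

namespace Cfsg.Agent.TH.Cl.Ext

variable {Γ : Type*} [Group Γ] [Finite Γ]

theorem relIndex_le {C H : Subgroup Γ} (hC : C ≤ H) {g : Γ} (T : Finset Γ)
    (h : ∀ γ ∈ C, ∃ t ∈ T, t⁻¹ * (γ * g * γ⁻¹) ∈ H) : (TH.cj g H).relIndex C ≤ T.card := by
  choose t h1 h2 using h
  rw [← Nat.card_eq_finsetCard T]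
  refine Nat.card_le_card_of_injective (fun q : C ⧸ (TH.cj g H).subgroupOf C => (⟨t q.out q.out.2, h1 _ _⟩ : T))
    fun q q' e => ?_
  have h3 := h2 q.out q.out.2
  rw [show t q.out q.out.2 = t q'.out q'.out.2 from congrArg Subtype.val e] at h3
  have h4 := H.mul_mem (H.mul_mem (H.inv_mem (hC q.out.2)) (H.mul_mem (H.inv_mem h3) (h2 q'.out q'.out.2)))
    (hC q'.out.2)
  rw [← q.out_eq', ← q'.out_eq', QuotientGroup.eq, Subgroup.mem_subgroupOf, mem_cj]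
  convert h4 using 1
  push_cast
  group

theorem eight_dvd {K N : Subgroup Γ} (hc : ∀ x ∈ N, ∀ y ∈ N, x * y = y * x) (he : ∀ x ∈ N, x ^ 2 = 1) {z a b : Γ}
    (hz : z ∈ N) (ha : a ∈ N) (hb : b ∈ N) (h1 : z ∉ K) (h2 : a ∉ K) (h3 : b ∉ K) (h4 : a * b ∉ K) (h5 : z * a ∉ K)
    (h6 : z * b ∉ K) (h7 : z * (a * b) ∉ K) : 8 ∣ K.relIndex N := by
  classical
  have : Fact (Nat.Prime 2) := ⟨Nat.prime_two⟩
  obtain ⟨k, hk⟩ := (show IsPGroup 2 N from fun x => ⟨1, Subtype.ext (he _ x.2)⟩).index (K.subgroupOf N)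
  have e : ∀ {x y : Γ} (hx : x ∈ N) (hy : y ∈ N), x * y ∉ K →
      ((⟨x, hx⟩ : N) : N ⧸ K.subgroupOf N) ≠ ((⟨y, hy⟩ : N) : N ⧸ K.subgroupOf N) := fun {x y} hx hy h h' => h (by
    rw [QuotientGroup.eq, Subgroup.mem_subgroupOf] at h'
    rwa [← inv_eq_of_mul_eq_one_right ((pow_two x).symm.trans (he x hx))])
  have f1 : a * (a * b) = b := by rw [← mul_assoc, ← pow_two, he a ha, one_mul]
  have f2 : b * (a * b) = a := by rw [hc a ha b hb, ← mul_assoc, ← pow_two, he b hb, one_mul]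
  have hab := N.mul_mem ha hb
  have := Fintype.ofFinite (N ⧸ K.subgroupOf N)
  have h8 := Finset.card_le_univ ({((⟨1, N.one_mem⟩ : N) : N ⧸ K.subgroupOf N), ((⟨z, hz⟩ : N) : N ⧸ K.subgroupOf N),
    ((⟨a, ha⟩ : N) : N ⧸ K.subgroupOf N), ((⟨b, hb⟩ : N) : N ⧸ K.subgroupOf N),
    ((⟨a * b, hab⟩ : N) : N ⧸ K.subgroupOf N)} : Finset _)
  rw [Finset.card_insert_of_notMem (by
      simp only [Finset.mem_insert, Finset.mem_singleton, not_or]
      exact ⟨e _ _ (by rwa [one_mul]), e _ _ (by rwa [one_mul]), e _ _ (by rwa [one_mul]), e _ _ (by rwa [one_mul])⟩),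
    Finset.card_insert_of_notMem (by
      simp only [Finset.mem_insert, Finset.mem_singleton, not_or]
      exact ⟨e _ _ h5, e _ _ h6, e _ _ h7⟩),
    Finset.card_insert_of_notMem (by
      simp only [Finset.mem_insert, Finset.mem_singleton, not_or]
      exact ⟨e _ _ h4, e _ _ (by rwa [f1])⟩),
    Finset.card_pair (e _ _ (by rwa [f2])), ← Nat.card_eq_fintype_card, ← Subgroup.index_eq_card, hk] at h8
  rw [Subgroup.relIndex, hk]
  refine pow_dvd_pow 2 (show 3 ≤ k from ?_)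
  by_contra h9
  have := Nat.pow_le_pow_right two_pos (show k ≤ 2 by omega)
  omega

theorem exists_syl (H : Subgroup Γ) : ∃ P ≤ H, IsPGroup 2 P ∧ ¬ 2 ∣ P.relIndex H := by
  have : Fact (Nat.Prime 2) := ⟨Nat.prime_two⟩
  obtain ⟨P⟩ : Nonempty (Sylow 2 H) := inferInstance
  refine ⟨P.1.map H.subtype, Subgroup.map_subtype_le _, P.2.map _, ?_⟩
  rw [Subgroup.relIndex, Subgroup.subgroupOf, Subgroup.comap_map_eq_self_of_injective H.subtype_injective]
  exact P.not_dvd_index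

theorem not_eight {G H C P : Subgroup Γ} {m : ℕ} (c : In G H m) {g : Γ} (hg : g ∈ G) (hn : g ∉ H) (hC : C ≤ H)
    (hP : P ≤ C) (h1 : ¬ 2 ∣ P.relIndex H) (h2 : (TH.cj g H).relIndex C ≤ 4) : ¬ 8 ∣ Nat.card H / m := by
  have h3 := c.half.relIndex_eq (g := ⟨g, hg⟩) hn
  rw [c.card_H, In.cj_sub, Subgroup.relIndex_subgroupOf c.le] at h3
  have h4 := Subgroup.relIndex_dvd_of_le_left H (inf_le_left : TH.cj g H ⊓ C ≤ _)
  rw [h3, ← Subgroup.relIndex_mul_relIndex _ C H inf_le_right hC, Subgroup.inf_relIndex_right] at h4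
  intro h5
  have h6 : Nat.Coprime 8 (C.relIndex H) := (((Nat.Prime.coprime_iff_not_dvd Nat.prime_two).2 fun h =>
    h1 (h.trans (Subgroup.relIndex_dvd_of_le_left H hP))).pow_left 3)
  have h7 := Nat.le_of_dvd (Nat.pos_of_ne_zero Subgroup.index_ne_zero_of_finite) (h6.dvd_of_dvd_mul_right (h5.trans h4))
  change 8 ≤ (TH.cj g H).relIndex C at h7
  omega

omit [Group Γ] in
theorem two_dvd_card {X : Set Γ} (f : Γ → Γ) (h1 : ∀ x ∈ X, f x ∈ X) (h2 : ∀ x ∈ X, f (f x) = x)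
    (h3 : ∀ x ∈ X, f x ≠ x) : 2 ∣ Nat.card X := by
  classical
  have := Fintype.ofFinite X
  have : Fact (Nat.Prime 2) := ⟨Nat.prime_two⟩
  have h4 := Equiv.Perm.card_fixedPoints_modEq (α := X) (f := fun x => ⟨f x, h1 x x.2⟩) (p := 2) (n := 1)
    (funext fun x => Subtype.ext (h2 x x.2))
  rw [Nat.card_eq_fintype_card]
  exact Nat.modEq_zero_iff_dvd.1 (h4.trans (by
    rw [Fintype.card_eq_zero_iff.2 ⟨fun x => h3 x.1 x.1.2 (congrArg Subtype.val x.2)⟩]))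

end Cfsg.Agent.TH.Cl.Ext
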